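/-
Arithmetic for the stabilizer criteria of the k(GV) problem (namespace `Cfsg.Agent.KGV`).

* `zRing N` : `ℤ[ζ_N]`; `card_le_sum_aut` : averaging over its automorphisms
* `InM M z` : `z` is an algebraic integer in `M`
* `Coef f` : all inner products with irreducible characters are algebraic integers
* `coef_kernel` : `h ↦ ∑ u, K u (h • u)` for an invariant integral kernel
* `coef_of_mul` : cancelling a character with prime power values
-/
import Cfsg.Agent.Lib.GaloisAvg.Basic
import Cfsg.Agent.Lib.Char.Orth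
import Cfsg.Agent.Lib.Char.Eigen
import Mathlib.LinearAlgebra.Matrix.Charpoly.Eigs
import Mathlib.LinearAlgebra.Matrix.Kronecker
import Mathlib.FieldTheory.IsAlgClosed.Spectrum

set_option autoImplicit false
set_option linter.style.haveILetI false

namespace Cfsg.Agent.KGV

open Cfsg Polynomial Finset
open Cfsg.Agent.GaloisAvg (zeta zeta_isPrimitiveRoot)
open scoped ComplexConjugate Kronecker

/-! ### The cyclotomic ring -/

/-- `ℤ[ζ_N]` inside `ℂ`. -/
abbrev zRing (N : ℕ) : Subalgebra ℤ ℂ := Algebra.adjoin ℤ {zeta N}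

theorem isIntegral_of_mem {N : ℕ} [NeZero N] {z : ℂ} (h : z ∈ zRing N) : IsIntegral ℤ z :=
  adjoin_le_integralClosure ((zeta_isPrimitiveRoot (NeZero.ne N)).isIntegral (NeZero.pos N)) h

theorem root_mem {N : ℕ} [NeZero N] {z : ℂ} (h : z ^ N = 1) : z ∈ zRing N := by
  obtain ⟨i, -, rfl⟩ := (zeta_isPrimitiveRoot (NeZero.ne N)).eq_pow_of_pow_eq_one h
  exact pow_mem (show zeta N ∈ zRing N from Algebra.subset_adjoin (Set.mem_singleton (zeta N))) i

theorem character_mem {G : Type*} [Group G] [Finite G] {N : ℕ} [NeZero N] {χ : G → ℂ}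
    (hχ : IsCharacter G χ) {g : G} (hg : g ^ N = 1) : χ g ∈ zRing N := by
  obtain ⟨n, ρ, rfl⟩ := hχ
  obtain ⟨b, μ, hμ, hroot⟩ := Char.exists_eigenbasis ρ g
  rw [Char.character_eq_sum_eigenvalues ρ g b μ hμ]
  refine sum_mem fun i _ => root_mem ?_
  obtain ⟨c, hc⟩ := orderOf_dvd_of_pow_eq_one hg
  rw [hc, pow_mul, hroot i, one_pow]

/-- The product over all primitive roots of the values of an integral polynomial is an integer. -/
theorem exists_int_prod {N : ℕ} [NeZero N] (P : ℤ[X]) :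
    ∃ n : ℤ, ∏ z ∈ primitiveRoots N ℂ, aeval z P = (n : ℂ) := by
  have : NeZero (N : ℚ) := NeZero.charZero
  have : IsCyclotomicExtension {N} ℚ (CyclotomicField N ℚ) :=
    CyclotomicField.isCyclotomicExtension N ℚ
  have hK : IsPrimitiveRoot (IsCyclotomicExtension.zeta N ℚ (CyclotomicField N ℚ)) N :=
    IsCyclotomicExtension.zeta_spec N ℚ (CyclotomicField N ℚ)
  set z0 := IsCyclotomicExtension.zeta N ℚ (CyclotomicField N ℚ) with hz0
  let e := hK.embeddingsEquivPrimitiveRoots ℂ (cyclotomic.irreducible_rat (NeZero.pos N))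
  haveI : FiniteDimensional ℚ (CyclotomicField N ℚ) :=
    IsCyclotomicExtension.finiteDimensional {N} ℚ (CyclotomicField N ℚ)
  have h1 : algebraMap ℚ ℂ (Algebra.norm ℚ (aeval z0 P)) =
      ∏ σ : (CyclotomicField N ℚ) →ₐ[ℚ] ℂ, σ (aeval z0 P) := Algebra.norm_eq_prod_embeddings ℚ ℂ _
  have h2 : ∏ σ : (CyclotomicField N ℚ) →ₐ[ℚ] ℂ, σ (aeval z0 P) =
      ∏ z ∈ primitiveRoots N ℂ, aeval z P := by
    rw [← prod_coe_sort (primitiveRoots N ℂ) fun z => aeval z P]
    refine Fintype.prod_equiv e _ _ fun σ => ?_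
    rw [show ((e σ : primitiveRoots N ℂ) : ℂ) = σ z0 from rfl]
    exact (aeval_algHom_apply (σ.restrictScalars ℤ) z0 P).symm
  have h3 : IsIntegral ℤ (Algebra.norm ℚ (aeval z0 P)) :=
    Algebra.isIntegral_norm ℚ (IsIntegral.map_of_comp_eq (RingHom.id ℤ)
      (RingHom.id (CyclotomicField N ℚ)) rfl
      ((adjoin_le_integralClosure (hK.isIntegral (NeZero.pos N)))
        (aeval_mem_adjoin_singleton ℤ z0)))
  obtain ⟨n, hn⟩ := IsIntegrallyClosed.isIntegral_iff.mp h3
  exact ⟨n, by rw [← h2, ← h1, ← hn]; simp⟩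

/-- Averaging: the conjugates of a nonzero algebraic integer have mean square at least one. -/
theorem card_le_sum_aut {N : ℕ} [NeZero N] (σ : ℂ → ℂ ≃+* ℂ)
    (hσ : ∀ z ∈ primitiveRoots N ℂ, σ z (zeta N) = z) {c : ℂ} (hc : IsIntegral ℤ c) (hc0 : c ≠ 0)
    {d : ℕ} (hd : 0 < d) (hdc : (d : ℂ) * c ∈ zRing N) :
    ((primitiveRoots N ℂ).card : ℝ) ≤ ∑ z ∈ primitiveRoots N ℂ, ‖σ z c‖ ^ 2 := by
  rw [zRing, Algebra.adjoin_singleton_eq_range_aeval] at hdc
  obtain ⟨P, hP⟩ := hdc
  change aeval (zeta N) P = _ at hP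
  set R := primitiveRoots N ℂ
  have hev : ∀ z ∈ R, aeval z P = (d : ℂ) * σ z c := by
    intro z hz
    have h1 := aeval_algHom_apply ((σ z).toRingHom.toIntAlgHom) (zeta N) P
    rw [show ((σ z).toRingHom.toIntAlgHom) (zeta N) = z from hσ z hz, hP] at h1
    rw [h1]
    show σ z ((d : ℂ) * c) = _
    rw [map_mul, map_natCast]
  have hint : ∀ z, IsIntegral ℤ (σ z c) := fun z =>
    IsIntegral.map ((σ z).toRingHom.toIntAlgHom) hc
  have hne : ∀ z, σ z c ≠ 0 := fun z => (map_ne_zero (σ z)).mpr hc0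
  -- the product is a nonzero rational integer
  have hprod : (1 : ℝ) ≤ ∏ z ∈ R, ‖σ z c‖ := by
    obtain ⟨n, hn⟩ := exists_int_prod (N := N) P
    rw [prod_congr rfl hev, prod_mul_distrib, prod_const] at hn
    have hI : IsIntegral ℤ (∏ z ∈ R, σ z c) := IsIntegral.prod _ fun z _ => hint z
    have hd0 : ((d : ℂ) ^ R.card) ≠ 0 := pow_ne_zero _ (Nat.cast_ne_zero.mpr hd.ne')
    have hq : ∏ z ∈ R, σ z c = ((((n : ℚ) / (d : ℚ) ^ R.card) : ℚ) : ℂ) := by
      push_cast
      rw [eq_div_iff hd0, mul_comm]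
      exact hn
    rw [hq] at hI
    obtain ⟨m, hm⟩ := IsIntegrallyClosed.isIntegral_iff.mp
      ((isIntegral_algebraMap_iff (B := ℂ) (A := ℚ) (R := ℤ) (algebraMap ℚ ℂ).injective).mp hI)
    rw [← hm] at hq
    simp only [eq_intCast, Rat.cast_intCast] at hq
    rw [← norm_prod, hq, Complex.norm_intCast]
    have hm0 : m ≠ 0 := by
      rintro rfl
      exact (prod_ne_zero_iff.mpr fun z _ => hne z) (by simpa using hq)
    exact_mod_cast Int.one_le_abs hm0
  have hpos : ∀ z ∈ R, 0 < ‖σ z c‖ ^ 2 := fun z _ => pow_pos (norm_pos_iff.mpr (hne z)) _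
  have h1 : 0 ≤ ∑ z ∈ R, Real.log (‖σ z c‖ ^ 2) := by
    rw [← Real.log_prod (fun z hz => (hpos z hz).ne'), prod_pow]
    exact Real.log_nonneg (one_le_pow₀ hprod)
  have h2 := h1.trans (sum_le_sum fun z hz => Real.log_le_sub_one_of_pos (hpos z hz))
  rw [sum_sub_distrib, sum_const, nsmul_one] at h2
  linarith

/-! ### Membership in a maximal ideal over `p` -/

/-- `z` is an algebraic integer lying in `M`. -/
def InM (M : Ideal AlgInt) (z : ℂ) : Prop := ∃ a ∈ M, (a : ℂ) = z

theorem InM.isIntegral {M : Ideal AlgInt} {z : ℂ} (h : InM M z) : IsIntegral ℤ z := by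
  obtain ⟨a, -, rfl⟩ := h; exact a.2

theorem inM_zero (M : Ideal AlgInt) : InM M 0 := ⟨0, M.zero_mem, rfl⟩

theorem InM.add {M : Ideal AlgInt} {x y : ℂ} (hx : InM M x) (hy : InM M y) : InM M (x + y) := by
  obtain ⟨a, ha, rfl⟩ := hx; obtain ⟨b, hb, rfl⟩ := hy
  exact ⟨a + b, M.add_mem ha hb, rfl⟩

theorem InM.sub {M : Ideal AlgInt} {x y : ℂ} (hx : InM M x) (hy : InM M y) : InM M (x - y) := by
  obtain ⟨a, ha, rfl⟩ := hx; obtain ⟨b, hb, rfl⟩ := hy
  exact ⟨a - b, M.sub_mem ha hb, rfl⟩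

theorem InM.mul_right {M : Ideal AlgInt} {x y : ℂ} (hx : InM M x) (hy : IsIntegral ℤ y) :
    InM M (x * y) := by
  obtain ⟨a, ha, rfl⟩ := hx
  exact ⟨a * ⟨y, hy⟩, M.mul_mem_right _ ha, rfl⟩

theorem InM.mul_left {M : Ideal AlgInt} {x y : ℂ} (hx : IsIntegral ℤ x) (hy : InM M y) :
    InM M (x * y) := mul_comm y x ▸ hy.mul_right hx

theorem inM_sum {M : Ideal AlgInt} {ι : Type*} (s : Finset ι) {f : ι → ℂ}
    (h : ∀ i ∈ s, InM M (f i)) : InM M (∑ i ∈ s, f i) :=
  Finset.sum_induction f (InM M) (fun _ _ => InM.add) (inM_zero M) h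

theorem inM_natCast_iff {p : ℕ} {M : Ideal AlgInt} (hM : IsPModular p M) (n : ℕ) :
    InM M (n : ℂ) ↔ p ∣ n := by
  refine ⟨fun ⟨a, ha, han⟩ => ?_, fun ⟨k, hk⟩ => ⟨(n : AlgInt), ?_, by simp⟩⟩
  · by_contra hd
    obtain ⟨u, v, huv⟩ : IsCoprime (p : ℤ) (n : ℤ) :=
      Nat.isCoprime_iff_coprime.mpr (hM.1.coprime_iff_not_dvd.mpr hd)
    have hnM : (n : AlgInt) ∈ M := by
      rwa [show (n : AlgInt) = a from Subtype.ext (by simp [han])]
    have h1 : ((u * p + v * n : ℤ) : AlgInt) ∈ M := by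
      push_cast
      exact M.add_mem (M.mul_mem_left _ hM.2.2) (M.mul_mem_left _ hnM)
    rw [huv, Int.cast_one] at h1
    exact hM.2.1.ne_top (M.eq_top_iff_one.mpr h1)
  · rw [hk, Nat.cast_mul]; exact M.mul_mem_right _ hM.2.2

theorem inM_sub_one {p : ℕ} {M : Ideal AlgInt} (hM : IsPModular p M) {z : ℂ} (hz : z ^ p = 1) :
    InM M (z - 1) := by
  haveI := hM.2.1
  haveI : Fact p.Prime := ⟨hM.1⟩
  have hzI : IsIntegral ℤ z := IsIntegral.of_pow hM.1.pos (by rw [hz]; exact isIntegral_one)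
  let a : AlgInt := ⟨z, hzI⟩
  have ha : a ^ p = 1 := Subtype.ext (by simpa using hz)
  let q := Ideal.Quotient.mk M
  haveI : CharP (AlgInt ⧸ M) p := by
    refine (CharP.charP_iff_prime_eq_zero hM.1).mpr ?_
    rw [← map_natCast q]
    exact Ideal.Quotient.eq_zero_iff_mem.mpr hM.2.2
  have h1 : (q a - 1) ^ p = 0 := by
    rw [sub_pow_char, ← map_pow, ha, map_one, one_pow, sub_self]
  refine ⟨a - 1, Ideal.Quotient.eq_zero_iff_mem.mp ?_, by simp [a]⟩
  rw [map_sub, map_one]
  exact eq_zero_of_pow_eq_zero h1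

theorem inM_character_sub {p : ℕ} {M : Ideal AlgInt} (hM : IsPModular p M) {G : Type*} [Group G]
    [Finite G] {χ : G → ℂ} (hχ : IsCharacter G χ) {g : G} (hg : g ^ p = 1) :
    InM M (χ g - χ 1) := by
  obtain ⟨n, ρ, rfl⟩ := hχ
  obtain ⟨b, μ, hμ, hroot⟩ := Char.exists_eigenbasis ρ g
  rw [Char.character_eq_sum_eigenvalues ρ g b μ hμ, Representation.char_one,
    show ((Module.finrank ℂ (Fin n → ℂ) : ℕ) : ℂ) = ∑ _i : Fin (Module.finrank ℂ (Fin n → ℂ)), (1 : ℂ) by
      simp, ← sum_sub_distrib]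
  refine inM_sum _ fun i _ => inM_sub_one hM ?_
  obtain ⟨c, hc⟩ := orderOf_dvd_of_pow_eq_one hg
  rw [hc, pow_mul, hroot i, one_pow]

/-! ### Integral coefficients -/

variable {H : Type*} [Group H] [Fintype H]

/-- All coefficients are algebraic integers. -/
def Coef (f : H → ℂ) : Prop := ∀ φ : IrrCharacter H, IsIntegral ℤ (classInner f (φ : H → ℂ))

theorem coef_character {χ : H → ℂ} (hχ : IsCharacter H χ) : Coef χ := fun φ => by
  obtain ⟨m, hm⟩ := Char.IsCharacter.classInner_nat hχ (Char.IsIrrCharacter.isCharacter φ.2)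
  rw [hm]
  simpa using (isIntegral_algebraMap (R := ℤ) (A := ℂ) (x := (m : ℤ)))

theorem Coef.add {f g : H → ℂ} (hf : Coef f) (hg : Coef g) : Coef (f + g) := fun φ => by
  rw [Char.classInner_add_left]; exact (hf φ).add (hg φ)

theorem Coef.smul {c : ℂ} (hc : IsIntegral ℤ c) {f : H → ℂ} (hf : Coef f) : Coef (c • f) :=
  fun φ => by rw [Char.classInner_smul_left]; exact hc.mul (hf φ)

theorem coef_sum {ι : Type*} (s : Finset ι) {f : ι → H → ℂ} (h : ∀ i ∈ s, Coef (f i)) :
    Coef (∑ i ∈ s, f i) := fun φ => by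
  rw [Char.classInner_sum_left]; exact IsIntegral.sum _ fun i hi => h i hi φ

theorem Coef.mul_character {f π : H → ℂ} (hf : Coef f) (hπ : IsCharacter H π) : Coef (f * π) := by
  classical
  intro φ
  haveI := Fintype.ofFinite (IrrCharacter H)
  let e : H → ℂ := fun h => conj (π h)
  have he : IsCharacter H e := Char.IsCharacter.conj hπ
  have hprod : IsCharacter H ((φ : H → ℂ) * e) :=
    Char.IsCharacter.mul (Char.IsIrrCharacter.isCharacter φ.2) he
  obtain ⟨m, hm, -⟩ := Char.IsCharacter.decompose hprod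
  have h1 : classInner (f * π) (φ : H → ℂ) = classInner f ((φ : H → ℂ) * e) := by
    simp only [classInner, Pi.mul_apply, e, map_mul, Complex.conj_conj]
    congr 1
    exact Finset.sum_congr rfl fun h _ => by ring
  rw [h1, hm, Char.classInner_sum_right]
  refine IsIntegral.sum _ fun ψ _ => ?_
  rw [Char.classInner_smul_right, Complex.conj_natCast]
  exact IsIntegral.mul (by simpa using (isIntegral_algebraMap (R := ℤ) (A := ℂ) (x := (m ψ : ℤ)))) (hf ψ)

theorem Coef.mul {f g : H → ℂ} (hfc : IsClassFunction H f) (hf : Coef f) (hg : Coef g) :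
    Coef (f * g) := by
  haveI := Fintype.ofFinite (IrrCharacter H)
  rw [Char.classFunction_eq_sum hfc, Finset.sum_mul]
  refine coef_sum _ fun φ _ => ?_
  rw [smul_mul_assoc, mul_comm (φ : H → ℂ) g]
  exact (hg.mul_character (Char.IsIrrCharacter.isCharacter φ.2)).smul (hf φ)

/-- The trace of an integral matrix is integral. -/
theorem isIntegral_trace {n : Type*} [Fintype n] [DecidableEq n] {T : Matrix n n ℂ}
    (hT : IsIntegral ℤ T) : IsIntegral ℤ T.trace := by
  obtain ⟨P, hP, hPT⟩ := hT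
  rw [Matrix.trace_eq_sum_roots_charpoly]
  refine IsIntegral.multiset_sum fun r hr => ?_
  have hmem : r ∈ spectrum ℂ T :=
    Matrix.mem_spectrum_iff_isRoot_charpoly.mpr (Polynomial.mem_roots'.mp hr).2
  rcases isEmpty_or_nonempty n with h | h
  · exact absurd hmem (by
      rw [spectrum.mem_iff, not_not]
      exact isUnit_of_subsingleton _)
  have h2 : (P.map (algebraMap ℤ ℂ)).eval r ∈ spectrum ℂ (aeval T (P.map (algebraMap ℤ ℂ))) :=
    spectrum.subset_polynomial_aeval T _ ⟨r, hmem, rfl⟩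
  rw [aeval_map_algebraMap, show aeval T P = 0 from hPT, spectrum.zero_eq,
    Set.mem_singleton_iff, eval_map] at h2
  exact ⟨P, hP, h2⟩

theorem isIntegral_matrix {n : Type*} [Fintype n] [DecidableEq n] {T : Matrix n n ℂ}
    (hT : ∀ i j, IsIntegral ℤ (T i j)) : IsIntegral ℤ T := by
  let T0 : Matrix n n AlgInt := fun i j => ⟨T i j, hT i j⟩
  refine isIntegral_trans (A := AlgInt) T ⟨T0.charpoly, T0.charpoly_monic, ?_⟩
  have h := congrArg (Algebra.ofId AlgInt ℂ).mapMatrix T0.aeval_self_charpoly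
  rw [map_zero, ← aeval_algHom_apply] at h
  exact h

theorem isIntegral_mul_idem {A : Type*} [Ring A] {T E : A} (hT : IsIntegral ℤ T)
    (hTE : Commute T E) (hE : E * E = E) : IsIntegral ℤ (T * E) := by
  obtain ⟨P, hP, hPT⟩ := hT
  refine ⟨P * X, hP.mul monic_X, ?_⟩
  have hpow : ∀ k : ℕ, (T * E) ^ (k + 1) = T ^ (k + 1) * E := by
    intro k
    induction k with
    | zero => rw [zero_add, pow_one, pow_one]
    | succ k ih =>
      rw [pow_succ, ih, pow_succ T (k + 1), mul_assoc, ← mul_assoc E T E, ← hTE.eq, mul_assoc T E E,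
        hE, mul_assoc]
  have key : ∀ Q : ℤ[X], aeval (T * E) (Q * X) = aeval T (Q * X) * E := by
    intro Q
    induction Q using Polynomial.induction_on' with
    | add a b ha hb => rw [add_mul, map_add, map_add, ha, hb, add_mul]
    | monomial k c =>
      simp only [← Polynomial.C_mul_X_pow_eq_monomial, mul_assoc, ← pow_succ, map_mul, aeval_C,
        map_pow, aeval_X, hpow]
  show aeval (T * E) (P * X) = 0
  rw [key, map_mul, show aeval T P = 0 from hPT, zero_mul, zero_mul]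

/-- An invariant kernel with integral values. -/
theorem coef_kernel {U : Type*} [Fintype U] [MulAction H U] (K : U → U → ℂ)
    (hK : ∀ u w, IsIntegral ℤ (K u w)) (hinv : ∀ (h : H) (u w : U), K (h • u) (h • w) = K u w) :
    Coef (fun h : H => ∑ u : U, K u (h • u)) := by
  classical
  intro φ
  obtain ⟨n, ρ, -, hρ⟩ := Char.IsIrrCharacter.conj φ.2
  let R : H → Matrix (Fin n) (Fin n) ℂ := fun h => LinearMap.toMatrixAlgEquiv' (ρ h)
  let Pm : H → Matrix U U ℂ := fun h => Matrix.of fun u w => if u = h • w then 1 else 0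
  let T : Matrix (U × Fin n) (U × Fin n) ℂ := (Matrix.of K) ⊗ₖ (1 : Matrix (Fin n) (Fin n) ℂ)
  let S : H → Matrix (U × Fin n) (U × Fin n) ℂ := fun h => Pm h ⊗ₖ R h
  have hR : ∀ a b, R a * R b = R (a * b) := fun a b => by simp only [R, map_mul]
  have hP : ∀ a b, Pm a * Pm b = Pm (a * b) := fun a b => by
    ext u w
    simp only [Matrix.mul_apply, Pm, Matrix.of_apply, ite_mul, one_mul, zero_mul]
    rw [Finset.sum_eq_single (b • w) (fun x _ hx => by simp [hx]) (fun h => absurd (Finset.mem_univ _) h)]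
    simp [mul_smul]
  have hS : ∀ a b, S a * S b = S (a * b) := fun a b => by
    simp only [S, ← Matrix.mul_kronecker_mul, hR, hP]
  have hKP : ∀ h, Matrix.of K * Pm h = Pm h * Matrix.of K := fun h => by
    ext u w
    simp only [Matrix.mul_apply, Pm, Matrix.of_apply, ite_mul, mul_ite, mul_one, one_mul, mul_zero,
      zero_mul]
    rw [Finset.sum_eq_single (h • w) (fun x _ hx => by simp [hx]) (fun h => absurd (Finset.mem_univ _) h),
      Finset.sum_eq_single (h⁻¹ • u) (fun x _ hx => if_neg fun e => hx (by rw [e, inv_smul_smul]))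
        (fun h => absurd (Finset.mem_univ _) h)]
    rw [if_pos rfl, if_pos (by rw [smul_inv_smul])]
    conv_lhs => rw [← smul_inv_smul h u]
    exact hinv h _ _
  set E : Matrix (U × Fin n) (U × Fin n) ℂ := (Nat.card H : ℂ)⁻¹ • ∑ h, S h with hE
  have hTS : ∀ h, Commute T (S h) := fun h => by
    show T * S h = S h * T
    simp only [T, S, ← Matrix.mul_kronecker_mul, hKP, one_mul, mul_one]
  have hTE : Commute T E := (Commute.sum_right _ _ _ fun h _ => hTS h).smul_right _
  have hSE : ∀ a, S a * ∑ h, S h = ∑ h, S h := fun a => by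
    rw [Finset.mul_sum]
    exact Fintype.sum_equiv (Equiv.mulLeft a) _ _ fun h => hS a h
  have hEE : E * E = E := by
    rw [hE, smul_mul_smul_comm, Finset.sum_mul, Finset.sum_congr rfl fun a _ => hSE a,
      Finset.sum_const, Finset.card_univ, ← Nat.cast_smul_eq_nsmul ℂ, smul_smul,
      ← Nat.card_eq_fintype_card, mul_assoc,
      inv_mul_cancel₀ (Nat.cast_ne_zero.mpr Nat.card_pos.ne'), mul_one]
  have hT : IsIntegral ℤ T := isIntegral_matrix fun i j => by
    simp only [T, Matrix.kroneckerMap_apply, Matrix.of_apply, Matrix.one_apply]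
    split_ifs with hij
    · rw [mul_one]; exact hK _ _
    · rw [mul_zero]; exact isIntegral_zero
  have h1 := isIntegral_trace (isIntegral_mul_idem hT hTE hEE)
  convert h1 using 1
  rw [hE, mul_smul_comm, Matrix.trace_smul, Finset.mul_sum, Matrix.trace_sum, smul_eq_mul, classInner]
  congr 1
  refine Finset.sum_congr rfl fun h _ => ?_
  simp only [T, S, ← Matrix.mul_kronecker_mul, one_mul, Matrix.trace_kronecker]
  congr 1
  · simp only [Matrix.trace, Matrix.diag_apply, Matrix.mul_apply, Pm, Matrix.of_apply, mul_ite,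
      mul_one, mul_zero, Finset.sum_ite_eq', Finset.mem_univ, if_true]
  · rw [← congrFun hρ h, Representation.character, LinearMap.trace_eq_matrix_trace ℂ (Pi.basisFun ℂ (Fin n)),
      LinearMap.toMatrix_eq_toMatrix']
    rfl

theorem isIntegral_of_coprime {a b : ℕ} (hab : a.Coprime b) {c : ℂ} (ha : IsIntegral ℤ ((a : ℂ) * c))
    (hb : IsIntegral ℤ ((b : ℂ) * c)) : IsIntegral ℤ c := by
  obtain ⟨u, v, huv⟩ := Nat.isCoprime_iff_coprime.mpr hab
  have h : c = (u : ℂ) * ((a : ℂ) * c) + (v : ℂ) * ((b : ℂ) * c) := by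
    have e : (u : ℂ) * (a : ℂ) + (v : ℂ) * (b : ℂ) = 1 := by exact_mod_cast huv
    linear_combination -c * e
  rw [h]
  exact (IsIntegral.mul (by simpa using (isIntegral_algebraMap (R := ℤ) (A := ℂ) (x := u))) ha).add
    (IsIntegral.mul (by simpa using (isIntegral_algebraMap (R := ℤ) (A := ℂ) (x := v))) hb)

/-- A character with values powers of `p` can be cancelled. -/
theorem coef_of_mul {p : ℕ} (hp : p.Prime) (hH : ¬ p ∣ Nat.card H) {θ π : H → ℂ}
    (hθint : ∀ h, IsIntegral ℤ (θ h)) (hπ : IsCharacter H π) {m : ℕ}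
    (hval : ∀ h, ∃ j ≤ m, π h = (p : ℂ) ^ j) (hθπ : Coef (θ * π)) : Coef θ := by
  let C : ℕ → ℂ := fun n => ∏ j ∈ range n, (-(p : ℂ) ^ j)
  have hCint : ∀ n, IsIntegral ℤ (C n) := fun n => IsIntegral.prod _ fun j _ =>
    (((isIntegral_algebraMap (R := ℤ) (A := ℂ) (x := (p : ℤ))).pow j)).neg |> fun h => by simpa using h
  have hind : ∀ n, Coef (fun h => θ h * (∏ j ∈ range n, (π h - (p : ℂ) ^ j) - C n)) := by
    intro n
    induction n with
    | zero =>
      intro φ
      simp only [C, range_zero, prod_empty, sub_self, mul_zero]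
      simp [classInner, isIntegral_zero]
    | succ n ih =>
      have e : (fun h => θ h * (∏ j ∈ range (n + 1), (π h - (p : ℂ) ^ j) - C (n + 1))) =
          (fun h => θ h * (∏ j ∈ range n, (π h - (p : ℂ) ^ j) - C n)) * π +
            ((-(p : ℂ) ^ n) • fun h => θ h * (∏ j ∈ range n, (π h - (p : ℂ) ^ j) - C n)) +
            C n • (θ * π) := by
        funext h
        simp only [C, prod_range_succ, Pi.add_apply, Pi.mul_apply, Pi.smul_apply, smul_eq_mul]
        ring
      rw [e]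
      refine ((ih.mul_character hπ).add (ih.smul ?_)).add (hθπ.smul (hCint n))
      have := (((isIntegral_algebraMap (R := ℤ) (A := ℂ) (x := (p : ℤ))).pow n)).neg
      simpa using this
  intro φ
  have h0 := hind (m + 1) φ
  have e : (fun h => θ h * (∏ j ∈ range (m + 1), (π h - (p : ℂ) ^ j) - C (m + 1))) =
      (-C (m + 1)) • θ := by
    funext h
    obtain ⟨j, hj, hjv⟩ := hval h
    rw [prod_eq_zero (mem_range.mpr (Nat.lt_succ_of_le hj)) (by rw [hjv, sub_self]), zero_sub,
      Pi.smul_apply, smul_eq_mul, mul_comm]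
  rw [e, Char.classInner_smul_left] at h0
  obtain ⟨s, hs⟩ : ∃ s, -C (m + 1) = (-1) ^ (m + 2) * ((p ^ s : ℕ) : ℂ) := by
    refine ⟨∑ j ∈ range (m + 1), j, ?_⟩
    simp only [C, prod_neg, card_range]
    rw [Nat.cast_pow, ← prod_pow_eq_pow_sum]
    ring
  have hp' : IsIntegral ℤ (((p ^ s : ℕ) : ℂ) * classInner θ (φ : H → ℂ)) := by
    have h2 := IsIntegral.mul (isIntegral_one.neg.pow (m + 2) : IsIntegral ℤ ((-1 : ℂ) ^ (m + 2))) h0
    rw [hs, mul_assoc, ← mul_assoc ((-1 : ℂ) ^ (m + 2)), ← mul_pow, neg_one_mul, neg_neg, one_pow,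
      one_mul] at h2
    exact h2
  have hH' : IsIntegral ℤ ((Nat.card H : ℂ) * classInner θ (φ : H → ℂ)) := by
    rw [Char.card_mul_classInner]
    refine IsIntegral.sum _ fun h _ => (hθint h).mul ?_
    exact IsIntegral.map (Complex.conjAe.toAlgHom.restrictScalars ℤ)
      (Char.IsCharacter.isIntegral (Char.IsIrrCharacter.isCharacter φ.2) h)
  exact isIntegral_of_coprime ((hp.coprime_iff_not_dvd.mpr hH).pow_left s) hp' hH'

end Cfsg.Agent.KGV
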