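/-
A character-theoretic bound for k(GV) (namespace `Cfsg.Agent.KGV`).

`Good p H W θ` : `θ` is a class function on `H` with integral coefficients, `θ 1 = 1`, small on
`W` in the sense `‖σ θ h‖ ^ 2 * |C_W(h)| ≤ |W|`, and in every maximal ideal over `p` off the
kernel of `H` on `W`. `card_conjClasses_le` : a good function on `W ≤ V` with `H = C_G(v)` faithful
on `W` gives `k(VG) ≤ |V|`.
-/
import Cfsg.Agent.Lib.KGV.Alg
import Cfsg.Agent.Lib.GaloisPow.Twist
import Cfsg.Agent.Lib.Ito.Basic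
import Cfsg.Agent.Lib.CentralChar.Fixed
import Cfsg.Agent.Lib.Char.Integral

set_option autoImplicit false
set_option linter.style.haveILetI false

namespace Cfsg.Agent.KGV

open Cfsg Finset
open Cfsg.Agent.GaloisAvg (zeta zeta_isPrimitiveRoot)
open scoped ComplexConjugate Kronecker

/-- Translating a character by a commuting element of finite order keeps coefficients integral. -/
theorem coef_translate {H G : Type*} [Group H] [Fintype H] [Group G] (f : H →* G) {χ : G → ℂ}
    (hχ : IsCharacter G χ) {v : G} {m : ℕ} (hm : 0 < m) (hv : v ^ m = 1)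
    (hcomm : ∀ h, Commute v (f h)) : Coef (fun h => χ (v * f h)) := by
  classical
  intro φ
  obtain ⟨k, ρ, rfl⟩ := hχ
  obtain ⟨n, π, -, hπ⟩ := Char.IsIrrCharacter.conj φ.2
  let A : G → Matrix (Fin k) (Fin k) ℂ := fun g => LinearMap.toMatrixAlgEquiv' (ρ g)
  let R : H → Matrix (Fin n) (Fin n) ℂ := fun h => LinearMap.toMatrixAlgEquiv' (π h)
  have hA : ∀ a b, A a * A b = A (a * b) := fun a b => by simp only [A, map_mul]
  have hR : ∀ a b, R a * R b = R (a * b) := fun a b => by simp only [R, map_mul]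
  let T : Matrix (Fin k × Fin n) (Fin k × Fin n) ℂ := A v ⊗ₖ (1 : Matrix (Fin n) (Fin n) ℂ)
  let S : H → Matrix (Fin k × Fin n) (Fin k × Fin n) ℂ := fun h => A (f h) ⊗ₖ R h
  have hS : ∀ a b, S a * S b = S (a * b) := fun a b => by
    simp only [S, ← Matrix.mul_kronecker_mul, hA, hR, map_mul]
  have hTS : ∀ h, Commute T (S h) := fun h => by
    show T * S h = S h * T
    simp only [T, S, ← Matrix.mul_kronecker_mul, hA, (hcomm h).eq, one_mul, mul_one]
  set E : Matrix (Fin k × Fin n) (Fin k × Fin n) ℂ := (Nat.card H : ℂ)⁻¹ • ∑ h, S h with hE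
  have hTE : Commute T E := (Commute.sum_right _ _ _ fun h _ => hTS h).smul_right _
  have hSE : ∀ a, S a * ∑ h, S h = ∑ h, S h := fun a => by
    rw [Finset.mul_sum]
    exact Fintype.sum_equiv (Equiv.mulLeft a) _ _ fun h => hS a h
  have hEE : E * E = E := by
    rw [hE, smul_mul_smul_comm, Finset.sum_mul, Finset.sum_congr rfl fun a _ => hSE a,
      Finset.sum_const, Finset.card_univ, ← Nat.cast_smul_eq_nsmul ℂ, smul_smul,
      ← Nat.card_eq_fintype_card, mul_assoc,
      inv_mul_cancel₀ (Nat.cast_ne_zero.mpr Nat.card_pos.ne'), mul_one]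
  have hT : IsIntegral ℤ T := by
    refine IsIntegral.of_pow hm ?_
    have e : ∀ i : ℕ, T ^ i = A (v ^ i) ⊗ₖ (1 : Matrix (Fin n) (Fin n) ℂ) := by
      intro i
      induction i with
      | zero => simp [A]
      | succ i ih =>
        rw [pow_succ, ih, pow_succ]
        simp only [T, ← Matrix.mul_kronecker_mul, hA, mul_one]
    rw [e, hv]
    simp only [A, map_one, Matrix.one_kronecker_one]
    exact isIntegral_one
  have h1 := isIntegral_trace (isIntegral_mul_idem hT hTE hEE)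
  convert h1 using 1
  rw [hE, mul_smul_comm, Matrix.trace_smul, Finset.mul_sum, Matrix.trace_sum, smul_eq_mul, classInner]
  congr 1
  refine Finset.sum_congr rfl fun h _ => ?_
  simp only [T, S, ← Matrix.mul_kronecker_mul, one_mul, Matrix.trace_kronecker, hA]
  congr 1
  · rw [Representation.character, LinearMap.trace_eq_matrix_trace ℂ (Pi.basisFun ℂ (Fin k)),
      LinearMap.toMatrix_eq_toMatrix']
    rfl
  · rw [← congrFun hπ h, Representation.character,
      LinearMap.trace_eq_matrix_trace ℂ (Pi.basisFun ℂ (Fin n)), LinearMap.toMatrix_eq_toMatrix']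
    rfl

theorem sum_norm_sq_irr {G : Type*} [Group G] [Finite G] [Fintype (IrrCharacter G)] (x : G) :
    ∑ χ : IrrCharacter G, ‖(χ : G → ℂ) x‖ ^ 2 =
      (Nat.card (Subgroup.centralizer ({x} : Set G)) : ℝ) := by
  classical
  have h := Char.column_orth x x
  rw [if_pos (IsConj.refl x)] at h
  have h' : ((∑ χ : IrrCharacter G, ‖(χ : G → ℂ) x‖ ^ 2 : ℝ) : ℂ) =
      ((Nat.card (Subgroup.centralizer ({x} : Set G)) : ℝ) : ℂ) := by
    push_cast
    rw [← h]
    exact Finset.sum_congr rfl fun χ _ => (Complex.mul_conj' _).symm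
  exact_mod_cast h'

theorem parseval {H : Type*} [Group H] [Fintype H] [Fintype (IrrCharacter H)] {f : H → ℂ}
    (hf : IsClassFunction H f) :
    ∑ φ : IrrCharacter H, ‖classInner f (φ : H → ℂ)‖ ^ 2 =
      (Nat.card H : ℝ)⁻¹ * ∑ h, ‖f h‖ ^ 2 := by
  have h := Char.classInner_eq_sum hf f
  have h' : ((∑ φ : IrrCharacter H, ‖classInner f (φ : H → ℂ)‖ ^ 2 : ℝ) : ℂ) =
      (((Nat.card H : ℝ)⁻¹ * ∑ h, ‖f h‖ ^ 2 : ℝ) : ℂ) := by
    push_cast
    simp only [← Complex.mul_conj']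
    rw [← h, classInner]
  exact_mod_cast h'

variable {X : Type*} [Group X]

/-- The functions used to bound `k(GV)`. -/
structure Good (p : ℕ) (H W : Subgroup X) [Fintype H] (θ : H → ℂ) : Prop where
  cls : IsClassFunction H θ
  coef : Coef θ
  one : θ 1 = 1
  mem : ∀ M : Ideal AlgInt, IsPModular p M → ∀ h : H, (∃ w ∈ W, ¬ Commute (h : X) w) →
    InM M (θ h)
  bound : ∀ (σ : ℂ ≃+* ℂ) (h : H),
    ‖σ (θ h)‖ ^ 2 * Nat.card (W ⊓ Subgroup.centralizer {(h : X)} : Subgroup X) ≤ Nat.card W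
  denom : ∃ d : ℕ, 0 < d ∧ ∀ h : H, (d : ℂ) * θ h ∈ zRing (p * Nat.card X)

variable {p : ℕ} {H W : Subgroup X}

theorem Good.isIntegral [Fintype H] {θ : H → ℂ} (hθ : Good p H W θ) (h : H) :
    IsIntegral ℤ (θ h) := by
  haveI := Fintype.ofFinite (IrrCharacter H)
  rw [Char.classFunction_eq_sum hθ.cls]
  simp only [Finset.sum_apply, Pi.smul_apply, smul_eq_mul]
  exact IsIntegral.sum _ fun φ _ => (hθ.coef φ).mul
    (Char.IsCharacter.isIntegral (Char.IsIrrCharacter.isCharacter φ.2) h)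

/-- If `H` centralises `W`, the constant `1` is good. -/
theorem good_one [Finite X] [Fintype H] (hc : ∀ h ∈ H, ∀ w ∈ W, Commute h w) :
    Good p H W (1 : H → ℂ) where
  cls _ _ := rfl
  coef := coef_character Char.isCharacter_one
  one := rfl
  mem _ _ h := fun ⟨w, hw, hne⟩ => absurd (hc h h.2 w hw) hne
  bound σ h := by
    simp only [Pi.one_apply, map_one, norm_one, one_pow, one_mul, Nat.cast_le]
    exact Subgroup.card_le_of_le inf_le_left
  denom := ⟨1, one_pos, fun h => by simp⟩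

/-- Products over independent invariant subgroups. -/
theorem Good.mul [Finite X] [Fintype H] {W₁ W₂ : Subgroup X} {θ₁ θ₂ : H → ℂ}
    (h₁ : Good p H W₁ θ₁) (h₂ : Good p H W₂ θ₂) (hcomm : ∀ a ∈ W₁, ∀ b ∈ W₂, Commute a b)
    (hdisj : W₁ ⊓ W₂ = ⊥) (hi₁ : ∀ h ∈ H, ∀ w ∈ W₁, h * w * h⁻¹ ∈ W₁)
    (hi₂ : ∀ h ∈ H, ∀ w ∈ W₂, h * w * h⁻¹ ∈ W₂) : Good p H (W₁ ⊔ W₂) (θ₁ * θ₂) := by
  have hnorm : W₂ ≤ Subgroup.normalizer (W₁ : Set X) := fun b hb => by
    refine Subgroup.mem_normalizer_iff.mpr fun a => ?_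
    constructor
    · intro ha; rwa [← (hcomm a ha b hb).eq, mul_inv_cancel_right]
    · intro ha
      have h := (hcomm _ ha b hb).eq
      have e : b * a * b⁻¹ = a := by
        calc b * a * b⁻¹ = b⁻¹ * (b * a * b⁻¹ * b) := by rw [h]; group
          _ = a := by group
      rwa [e] at ha
  have hsplit : ∀ w ∈ W₁ ⊔ W₂, ∃ a ∈ W₁, ∃ b ∈ W₂, a * b = w := by
    intro w hw
    rw [← SetLike.mem_coe, Subgroup.coe_mul_of_right_le_normalizer_left W₁ W₂ hnorm] at hw
    obtain ⟨a, ha, b, hb, e⟩ := hw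
    exact ⟨a, ha, b, hb, e⟩
  have huniq : ∀ a ∈ W₁, ∀ b ∈ W₂, ∀ a' ∈ W₁, ∀ b' ∈ W₂, a * b = a' * b' → a = a' ∧ b = b' := by
    intro a ha b hb a' ha' b' hb' e
    have h : a'⁻¹ * a = b' * b⁻¹ := by
      rw [eq_mul_inv_iff_mul_eq, mul_assoc, e, inv_mul_cancel_left]
    have hm : a'⁻¹ * a ∈ W₁ ⊓ W₂ :=
      Subgroup.mem_inf.mpr ⟨mul_mem (inv_mem ha') ha, h ▸ mul_mem hb' (inv_mem hb)⟩
    rw [hdisj, Subgroup.mem_bot, inv_mul_eq_one] at hm
    exact ⟨hm.symm, mul_left_cancel (hm ▸ e : a * b = a * b')⟩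
  refine ⟨fun g x => ?_, h₁.coef.mul h₁.cls h₂.coef, ?_, ?_, ?_, ?_⟩
  · simp only [Pi.mul_apply, h₁.cls g x, h₂.cls g x]
  · rw [Pi.mul_apply, h₁.one, h₂.one, one_mul]
  · rintro M hM h ⟨w, hw, hne⟩
    obtain ⟨a, ha, b, hb, rfl⟩ := hsplit w hw
    by_cases hca : Commute (h : X) a
    · exact InM.mul_left (h₁.isIntegral h)
        (h₂.mem M hM h ⟨b, hb, fun hcb => hne (hca.mul_right hcb)⟩)
    · exact InM.mul_right (h₁.mem M hM h ⟨a, ha, hca⟩) (h₂.isIntegral h)
  · intro σ h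
    set C := Subgroup.centralizer {(h : X)} with hC
    have hle : Nat.card ((W₁ ⊔ W₂) ⊓ C : Subgroup X) ≤
        Nat.card (W₁ ⊓ C : Subgroup X) * Nat.card (W₂ ⊓ C : Subgroup X) := by
      rw [← Nat.card_prod]
      refine Nat.card_le_card_of_surjective
        (fun q : ↥(W₁ ⊓ C) × ↥(W₂ ⊓ C) => (⟨(q.1 : X) * q.2,
          mul_mem (Subgroup.mem_sup_left q.1.2.1) (Subgroup.mem_sup_right q.2.2.1),
          mul_mem q.1.2.2 q.2.2.2⟩ : ↥((W₁ ⊔ W₂) ⊓ C))) ?_
      rintro ⟨w, hw, hwC⟩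
      obtain ⟨a, ha, b, hb, rfl⟩ := hsplit w hw
      replace hwC := Subgroup.mem_centralizer_singleton_iff.mp hwC
      have e : ((h : X) * a * (h : X)⁻¹) * ((h : X) * b * (h : X)⁻¹) = a * b :=
        calc ((h : X) * a * (h : X)⁻¹) * ((h : X) * b * (h : X)⁻¹)
            = ((h : X) * (a * b)) * (h : X)⁻¹ := by group
          _ = ((a * b) * (h : X)) * (h : X)⁻¹ := by rw [hwC]
          _ = a * b := by group
      obtain ⟨e1, e2⟩ := huniq _ (hi₁ h h.2 a ha) _ (hi₂ h h.2 b hb) a ha b hb e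
      refine ⟨(⟨a, ha, ?_⟩, ⟨b, hb, ?_⟩), rfl⟩
      · refine Subgroup.mem_centralizer_singleton_iff.mpr ?_
        exact (mul_inv_eq_iff_eq_mul.mp e1).symm
      · refine Subgroup.mem_centralizer_singleton_iff.mpr ?_
        exact (mul_inv_eq_iff_eq_mul.mp e2).symm
    have hge : Nat.card W₁ * Nat.card W₂ ≤ Nat.card (W₁ ⊔ W₂ : Subgroup X) := by
      rw [← Nat.card_prod]
      refine Nat.card_le_card_of_injective
        (fun q : W₁ × W₂ => (⟨(q.1 : X) * q.2,
          mul_mem (Subgroup.mem_sup_left q.1.2) (Subgroup.mem_sup_right q.2.2)⟩ :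
            ↥(W₁ ⊔ W₂))) ?_
      rintro ⟨⟨a, ha⟩, ⟨b, hb⟩⟩ ⟨⟨a', ha'⟩, ⟨b', hb'⟩⟩ e
      obtain ⟨rfl, rfl⟩ := huniq a ha b hb a' ha' b' hb' (Subtype.ext_iff.mp e)
      rfl
    rw [Pi.mul_apply, map_mul, norm_mul, mul_pow]
    calc ‖σ (θ₁ h)‖ ^ 2 * ‖σ (θ₂ h)‖ ^ 2 * (Nat.card ((W₁ ⊔ W₂) ⊓ C : Subgroup X) : ℝ)
        ≤ ‖σ (θ₁ h)‖ ^ 2 * ‖σ (θ₂ h)‖ ^ 2 *
          ((Nat.card (W₁ ⊓ C : Subgroup X) : ℝ) * Nat.card (W₂ ⊓ C : Subgroup X)) := by
          gcongr; exact_mod_cast hle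
      _ = (‖σ (θ₁ h)‖ ^ 2 * Nat.card (W₁ ⊓ C : Subgroup X)) *
          (‖σ (θ₂ h)‖ ^ 2 * Nat.card (W₂ ⊓ C : Subgroup X)) := by ring
      _ ≤ (Nat.card W₁ : ℝ) * Nat.card W₂ :=
          mul_le_mul (h₁.bound σ h) (h₂.bound σ h) (by positivity) (by positivity)
      _ ≤ _ := by exact_mod_cast hge
  · obtain ⟨d₁, hd₁, hm₁⟩ := h₁.denom
    obtain ⟨d₂, hd₂, hm₂⟩ := h₂.denom
    refine ⟨d₁ * d₂, Nat.mul_pos hd₁ hd₂, fun h => ?_⟩
    have := mul_mem (hm₁ h) (hm₂ h)
    rw [Nat.cast_mul, Pi.mul_apply]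
    convert this using 1
    ring

/-- A larger group with the same moving elements. -/
theorem Good.mono [Finite X] [Fintype H] {θ : H → ℂ} {V : Subgroup X} (hθ : Good p H W θ)
    (hWV : W ≤ V) (hmove : ∀ h : H, (∃ w ∈ V, ¬ Commute (h : X) w) → ∃ w ∈ W, ¬ Commute (h : X) w) :
    Good p H V θ := by
  refine ⟨hθ.cls, hθ.coef, hθ.one, fun M hM h hh => hθ.mem M hM h (hmove h hh), fun σ h => ?_,
    hθ.denom⟩
  set C := Subgroup.centralizer {(h : X)}
  have hkey : Nat.card (V ⊓ C : Subgroup X) * Nat.card W ≤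
      Nat.card V * Nat.card (W ⊓ C : Subgroup X) := by
    have h1 := Subgroup.card_mul_index (W.subgroupOf (V ⊓ C))
    have h2 := Subgroup.card_mul_index (W.subgroupOf V)
    rw [Nat.card_congr (Subgroup.subgroupOfEquivOfLe hWV).toEquiv] at h2
    have h3 : Nat.card (W.subgroupOf (V ⊓ C)) = Nat.card (W ⊓ C : Subgroup X) := by
      rw [← Subgroup.inf_subgroupOf_right W (V ⊓ C),
        Nat.card_congr (Subgroup.subgroupOfEquivOfLe inf_le_right).toEquiv, ← inf_assoc,
        inf_eq_left.mpr hWV]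
    rw [h3] at h1
    have h4 : (W.subgroupOf (V ⊓ C)).index ≤ (W.subgroupOf V).index :=
      Subgroup.relIndex_le_of_le_right inf_le_left Subgroup.index_ne_zero_of_finite
    calc Nat.card (V ⊓ C : Subgroup X) * Nat.card W
        = Nat.card (W ⊓ C : Subgroup X) * (W.subgroupOf (V ⊓ C)).index * Nat.card W := by rw [h1]
      _ ≤ Nat.card (W ⊓ C : Subgroup X) * (W.subgroupOf V).index * Nat.card W := by gcongr
      _ = _ := by rw [← h2]; ring
  have hW : (0 : ℝ) < Nat.card W := by exact_mod_cast Nat.card_pos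
  refine le_of_mul_le_mul_right ?_ hW
  calc ‖σ (θ h)‖ ^ 2 * (Nat.card (V ⊓ C : Subgroup X) : ℝ) * Nat.card W
      ≤ ‖σ (θ h)‖ ^ 2 * ((Nat.card V : ℝ) * Nat.card (W ⊓ C : Subgroup X)) := by
        rw [mul_assoc]; refine mul_le_mul_of_nonneg_left ?_ (by positivity); exact_mod_cast hkey
    _ = (‖σ (θ h)‖ ^ 2 * Nat.card (W ⊓ C : Subgroup X)) * Nat.card V := by ring
    _ ≤ (Nat.card W : ℝ) * Nat.card V := by gcongr; exact hθ.bound σ h
    _ = _ := mul_comm _ _

section Main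

variable [Finite X] {V G : Subgroup X} {v : X}

theorem card_centralizer_le [V.Normal] (hp : p.Prime) (hVexp : ∀ v ∈ V, v ^ p = 1)
    (hab : ∀ a ∈ V, ∀ b ∈ V, Commute a b) (hGV : Subgroup.IsComplement' V G) (hv : v ∈ V)
    (hH : H = G ⊓ Subgroup.centralizer {v}) (hcop : ¬ p ∣ Nat.card H) (h : H) :
    Nat.card (Subgroup.centralizer ({v * (h : X)} : Set X)) ≤
      Nat.card (V ⊓ Subgroup.centralizer {(h : X)} : Subgroup X) *
        Nat.card (Subgroup.centralizer ({h} : Set H)) := by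
  subst hH
  have hvh : Commute v (h : X) :=
    (Subgroup.mem_centralizer_singleton_iff.mp h.2.2).symm
  rw [← Nat.card_prod]
  have key : ∀ x ∈ Subgroup.centralizer ({v * (h : X)} : Set X), ∃ w, ∃ a,
      (w ∈ V ∧ w * (h : X) = (h : X) * w) ∧ (a ∈ G ∧ a * v = v * a ∧ a * h = h * a) ∧ w * a = x := by
    intro x hx
    have hx' : Commute x (v * (h : X)) := Subgroup.mem_centralizer_singleton_iff.mp hx
    have hxv : Commute x v := by
      have h1 : Commute x ((v * (h : X)) ^ Nat.card ↥(G ⊓ Subgroup.centralizer {v})) := hx'.pow_right _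
      have h2 : (h : X) ^ Nat.card ↥(G ⊓ Subgroup.centralizer {v}) = 1 := by
        have := congrArg Subtype.val (pow_card_eq_one' (x := h))
        simpa using this
      rw [hvh.mul_pow, h2, mul_one] at h1
      obtain ⟨s, t, hst⟩ := Nat.isCoprime_iff_coprime.mpr
        ((hp.coprime_iff_not_dvd.mpr hcop))
      have hv1 : v = (v ^ p) ^ s * (v ^ Nat.card ↥(G ⊓ Subgroup.centralizer {v})) ^ t := by
        rw [← zpow_natCast, ← zpow_natCast, ← zpow_mul, ← zpow_mul, ← zpow_add, mul_comm,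
          mul_comm (Nat.card _ : ℤ), hst, zpow_one]
      rw [hv1, hVexp v hv, one_zpow, one_mul]
      exact h1.zpow_right t
    have hxh : Commute x (h : X) := by
      have := hxv.inv_right.mul_right hx'
      rwa [inv_mul_cancel_left] at this
    obtain ⟨⟨⟨w, hw⟩, ⟨a, ha⟩⟩, hwa⟩ := hGV.2 x
    simp only at hwa
    subst hwa
    have hav : Commute a v := by
      have := (hab w hw v hv).inv_left.mul_left hxv
      rwa [inv_mul_cancel_left] at this
    have hah : a * (h : X) * a⁻¹ * (h : X)⁻¹ = 1 := by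
      have h1 : a * (h : X) * a⁻¹ * (h : X)⁻¹ = w⁻¹ * ((h : X) * w * (h : X)⁻¹) := by
        calc a * (h : X) * a⁻¹ * (h : X)⁻¹
            = w⁻¹ * (w * a * (h : X)) * a⁻¹ * (h : X)⁻¹ := by group
          _ = w⁻¹ * ((h : X) * (w * a)) * a⁻¹ * (h : X)⁻¹ := by rw [hxh.eq]
          _ = _ := by group
      have hV : a * (h : X) * a⁻¹ * (h : X)⁻¹ ∈ V := by
        rw [h1]; exact mul_mem (inv_mem hw) (Subgroup.Normal.conj_mem inferInstance w hw _)
      have hG : a * (h : X) * a⁻¹ * (h : X)⁻¹ ∈ G :=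
        mul_mem (mul_mem (mul_mem ha h.2.1) (inv_mem ha)) (inv_mem h.2.1)
      exact Subgroup.disjoint_def.mp hGV.disjoint hV hG
    have hah' : a * (h : X) = (h : X) * a := by
      rwa [mul_inv_eq_one, mul_inv_eq_iff_eq_mul] at hah
    refine ⟨w, a, ⟨hw, ?_⟩, ⟨ha, hav.eq, hah'⟩, rfl⟩
    have h3 := hxh.eq
    rw [mul_assoc, hah', ← mul_assoc, ← mul_assoc] at h3
    exact mul_right_cancel h3
  choose w a hw ha hwa using key
  refine Nat.card_le_card_of_injective (fun x =>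
    ((⟨w x x.2, (hw x x.2).1, Subgroup.mem_centralizer_singleton_iff.mpr (hw x x.2).2⟩ :
        ↥(V ⊓ Subgroup.centralizer {(h : X)})),
      (⟨⟨a x x.2, (ha x x.2).1, Subgroup.mem_centralizer_singleton_iff.mpr (ha x x.2).2.1⟩,
        Subgroup.mem_centralizer_singleton_iff.mpr (Subtype.ext (ha x x.2).2.2)⟩ :
        Subgroup.centralizer ({h} : Set ↥(G ⊓ Subgroup.centralizer {v}))))) ?_
  intro x y e
  simp only [Prod.mk.injEq] at e
  have e1 : w x x.2 = w y y.2 := congrArg Subtype.val e.1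
  have e2 : a x x.2 = a y y.2 := congrArg Subtype.val (congrArg Subtype.val e.2)
  exact Subtype.ext ((hwa x x.2).symm.trans ((congrArg₂ (· * ·) e1 e2).trans (hwa y y.2)))

/-- The criterion. -/
theorem card_conjClasses_le [Fact p.Prime] [V.Normal] (hVexp : ∀ v ∈ V, v ^ p = 1)
    (hidx : ¬ p ∣ V.index) (hab : ∀ a ∈ V, ∀ b ∈ V, Commute a b)
    (hGV : Subgroup.IsComplement' V G) (hv : v ∈ V) (hH : H = G ⊓ Subgroup.centralizer {v})
    [Fintype H] {θ : H → ℂ} (hWV : W ≤ V) (hθ : Good p H W θ)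
    (hfaith : ∀ h ∈ H, (∀ w ∈ W, Commute h w) → h = 1) :
    Nat.card (ConjClasses X) ≤ Nat.card V := by
  classical
  have hp : p.Prime := Fact.out
  have := Fintype.ofFinite X
  have := Fintype.ofFinite (IrrCharacter X)
  have := Fintype.ofFinite (IrrCharacter H)
  have hGcard : Nat.card G = V.index := hGV.symm.index_eq_card.symm
  have hcop : ¬ p ∣ Nat.card H := fun hd => hidx (hGcard ▸ hd.trans
    (Subgroup.card_dvd_of_le (hH ▸ inf_le_left)))
  have hvH : ∀ h : H, Commute v (h : X) := fun h => by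
    have h2 := (hH ▸ h.2 : (h : X) ∈ G ⊓ Subgroup.centralizer {v}).2
    exact (Subgroup.mem_centralizer_singleton_iff.mp h2).symm
  have hθV : Good p H V θ := hθ.mono hWV fun h ⟨w, hw, hne⟩ => by
    by_contra hcon
    push Not at hcon
    exact hne (by rw [hfaith h h.2 hcon]; exact Commute.one_left w)
  obtain ⟨M, hM⟩ := CentralChar.exists_pModular p
  set N := p * Nat.card X with hN
  haveI : NeZero N := ⟨(Nat.mul_pos hp.pos Nat.card_pos).ne'⟩
  have hroot : ∀ z ∈ primitiveRoots N ℂ, ∃ σ : ℂ ≃+* ℂ, σ (zeta N) = z := by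
    intro z hz
    rw [mem_primitiveRoots (NeZero.pos N)] at hz
    obtain ⟨k, -, hk, rfl⟩ := ((zeta_isPrimitiveRoot (NeZero.ne N)).isPrimitiveRoot_iff).mp hz
    obtain ⟨f, hf⟩ := GaloisPow.exists_ringAut (NeZero.ne N) hk
    exact ⟨f, hf _ (zeta_isPrimitiveRoot (NeZero.ne N)).pow_eq_one⟩
  choose! σ hσ using hroot
  let F : IrrCharacter X → H → ℂ := fun χ h => θ h * (χ : X → ℂ) (v * h)
  let c : IrrCharacter X → IrrCharacter H → ℂ := fun χ φ => classInner (F χ) (φ : H → ℂ)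
  have hcoef : ∀ χ : IrrCharacter X, Coef (fun h : H => (χ : X → ℂ) (v * h)) := fun χ =>
    coef_translate H.subtype (Char.IsIrrCharacter.isCharacter χ.2) hp.pos (hVexp v hv) hvH
  have hc_int : ∀ χ φ, IsIntegral ℤ (c χ φ) := fun χ φ => hθ.coef.mul hθ.cls (hcoef χ) φ
  have hφinv : ∀ (φ : IrrCharacter H) (h : H), conj ((φ : H → ℂ) h) = (φ : H → ℂ) h⁻¹ :=
    fun φ h => (Char.IsCharacter.apply_inv (Char.IsIrrCharacter.isCharacter φ.2) h).symm
  -- the coefficients do not vanish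
  have hc_ne : ∀ χ φ, c χ φ ≠ 0 := by
    intro χ φ h0
    have h1 : ∑ h : H, F χ h * conj ((φ : H → ℂ) h) = 0 := by
      rw [← Char.card_mul_classInner, show classInner (F χ) (φ : H → ℂ) = 0 from h0, mul_zero]
    have hχc := Char.IsIrrCharacter.isCharacter χ.2
    obtain ⟨n, -, hn, hnd⟩ := Ito.exists_degree_dvd_index χ.2 V fun a ha b hb => (hab a ha b hb).eq
    obtain ⟨m, hm, hmd⟩ : ∃ m : ℕ, (φ : H → ℂ) 1 = m ∧ ¬ p ∣ m := by
      obtain ⟨m, -, hm, hmd⟩ := Char.IsIrrCharacter.degree_dvd_card φ.2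
      exact ⟨m, hm, fun hd => hcop (hd.trans hmd)⟩
    rw [← Finset.add_sum_erase _ _ (Finset.mem_univ (1 : H))] at h1
    have h2 : InM M (F χ 1 * conj ((φ : H → ℂ) 1)) := by
      rw [eq_neg_of_add_eq_zero_left h1]
      have := inM_sum (M := M) (Finset.univ.erase (1 : H))
        (f := fun h => F χ h * conj ((φ : H → ℂ) h)) fun h hh => by
        refine InM.mul_right (InM.mul_right (hθV.mem M hM h ?_)
          (Char.IsCharacter.isIntegral hχc _)) ?_
        · by_contra hcon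
          push Not at hcon
          exact Finset.ne_of_mem_erase hh (Subtype.ext (hfaith h h.2 fun w hw => hcon w (hWV hw)))
        · rw [hφinv]
          exact Char.IsCharacter.isIntegral (Char.IsIrrCharacter.isCharacter φ.2) _
      simpa using (inM_zero M).sub this
    have h3 : InM M (((n * m : ℕ) : ℂ)) := by
      have h4 := inM_character_sub hM hχc (hVexp v hv)
      have h5 := InM.sub h2 (h4.mul_right (isIntegral_algebraMap (R := ℤ) (A := ℂ) (x := (m : ℤ))))
      convert h5 using 1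
      simp only [F, OneMemClass.coe_one, mul_one, hθ.one, one_mul, hm, hn, Complex.conj_natCast]
      push_cast [eq_intCast]
      ring
    rcases hp.dvd_mul.mp ((inM_natCast_iff hM _).mp h3) with hd | hd
    · exact hidx (hd.trans hnd)
    · exact hmd hd
  -- denominators
  obtain ⟨d, hd, hdm⟩ := hθ.denom
  have hc_den : ∀ χ φ, ((d * Nat.card H : ℕ) : ℂ) * c χ φ ∈ zRing N := by
    intro χ φ
    have e : ((d * Nat.card H : ℕ) : ℂ) * c χ φ =
        ∑ h : H, ((d : ℂ) * θ h) * (χ : X → ℂ) (v * h) * conj ((φ : H → ℂ) h) := by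
      rw [Nat.cast_mul, mul_assoc, Char.card_mul_classInner, Finset.mul_sum]
      exact Finset.sum_congr rfl fun h _ => by simp only [F]; ring
    rw [e]
    refine sum_mem fun h _ => mul_mem (mul_mem (hdm h) ?_) ?_
    · refine character_mem (Char.IsIrrCharacter.isCharacter χ.2) ?_
      rw [hN, mul_comm, pow_mul, pow_card_eq_one', one_pow]
    · rw [hφinv]
      refine character_mem (Char.IsIrrCharacter.isCharacter φ.2) (Subtype.ext ?_)
      rw [hN, mul_comm, pow_mul, Subgroup.coe_pow, Subgroup.coe_pow, pow_card_eq_one', one_pow,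
        Subgroup.coe_one]
  -- the mean square
  have hsum : ∀ τ : ℂ ≃+* ℂ, ∑ χ, ∑ φ, ‖τ (c χ φ)‖ ^ 2 ≤
      (Nat.card V : ℝ) * Nat.card (ConjClasses H) := by
    intro τ
    let tX : IrrCharacter X → IrrCharacter X := fun χ =>
      ⟨fun x => τ.toRingHom ((χ : X → ℂ) x), GaloisPow.isIrrCharacter_twist τ.toRingHom χ.2⟩
    let tH : IrrCharacter H → IrrCharacter H := fun φ =>
      ⟨fun x => τ.toRingHom ((φ : H → ℂ) x), GaloisPow.isIrrCharacter_twist τ.toRingHom φ.2⟩
    have htX : Function.Bijective tX := Finite.injective_iff_bijective.mp fun a b e =>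
      Subtype.ext (funext fun x => τ.injective (congrFun (Subtype.ext_iff.mp e) x))
    have htH : Function.Bijective tH := Finite.injective_iff_bijective.mp fun a b e =>
      Subtype.ext (funext fun x => τ.injective (congrFun (Subtype.ext_iff.mp e) x))
    let K : IrrCharacter X → H → ℂ := fun χ h => τ (θ h) * (χ : X → ℂ) (v * h)
    have hK : ∀ χ, IsClassFunction H (K χ) := fun χ g x => by
      show τ (θ (x * g * x⁻¹)) * (χ : X → ℂ) (v * ((x * g * x⁻¹ : H) : X)) = _
      rw [hθ.cls g x, Subgroup.coe_mul, Subgroup.coe_mul, Subgroup.coe_inv]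
      have e : v * ((x : X) * g * (x : X)⁻¹) = (x : X) * (v * g) * (x : X)⁻¹ := by
        rw [← mul_assoc, ← mul_assoc, (hvH x).eq]; group
      rw [e, Char.IsIrrCharacter.isClassFunction χ.2]
    have hτc : ∀ χ φ, τ (c χ φ) = classInner (K (tX χ)) (tH φ : H → ℂ) := by
      intro χ φ
      simp only [c, classInner, map_mul, map_inv₀, map_natCast, map_sum, hφinv, F, K]
      rfl
    calc ∑ χ, ∑ φ, ‖τ (c χ φ)‖ ^ 2
        = ∑ χ, (fun χ' => ∑ φ : IrrCharacter H, ‖classInner (K χ') (φ : H → ℂ)‖ ^ 2) (tX χ) := by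
          refine Finset.sum_congr rfl fun χ _ => ?_
          simp only [hτc]
          exact Function.Bijective.sum_comp htH fun φ => ‖classInner (K (tX χ)) (φ : H → ℂ)‖ ^ 2
      _ = ∑ χ, (Nat.card H : ℝ)⁻¹ * ∑ h : H, ‖K χ h‖ ^ 2 := by
          rw [Function.Bijective.sum_comp htX fun χ' => ∑ φ : IrrCharacter H, ‖classInner (K χ') (φ : H → ℂ)‖ ^ 2]
          exact Finset.sum_congr rfl fun χ _ => parseval (hK χ)
      _ = (Nat.card H : ℝ)⁻¹ * ∑ h : H, ‖τ (θ h)‖ ^ 2 *
            Nat.card (Subgroup.centralizer ({v * (h : X)} : Set X)) := by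
          rw [← Finset.mul_sum, Finset.sum_comm]
          congr 1
          refine Finset.sum_congr rfl fun h _ => ?_
          simp only [K, norm_mul, mul_pow, ← Finset.mul_sum, sum_norm_sq_irr]
      _ ≤ (Nat.card H : ℝ)⁻¹ * ∑ h : H, (Nat.card V : ℝ) *
            Nat.card (Subgroup.centralizer ({h} : Set H)) := by
          refine mul_le_mul_of_nonneg_left (Finset.sum_le_sum fun h _ => ?_) (by positivity)
          calc ‖τ (θ h)‖ ^ 2 * (Nat.card (Subgroup.centralizer ({v * (h : X)} : Set X)) : ℝ)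
              ≤ ‖τ (θ h)‖ ^ 2 * ((Nat.card (V ⊓ Subgroup.centralizer {(h : X)} : Subgroup X) : ℝ) *
                  Nat.card (Subgroup.centralizer ({h} : Set H))) := by
                gcongr; exact_mod_cast card_centralizer_le hp hVexp hab hGV hv hH hcop h
            _ ≤ _ := by
                rw [← mul_assoc]; gcongr; exact hθV.bound τ h
      _ = (Nat.card V : ℝ) * Nat.card (ConjClasses H) := by
          have e : ∑ h : H, (Nat.card (Subgroup.centralizer ({h} : Set H)) : ℝ) =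
              (Nat.card H : ℝ) * Nat.card (ConjClasses H) := by
            simp only [← sum_norm_sq_irr]
            rw [Finset.sum_comm, ← Char.card_irr_eq_card_conjClasses, Nat.card_eq_fintype_card
              (α := IrrCharacter H), mul_comm, ← nsmul_eq_mul, ← Finset.card_univ,
              ← Finset.sum_const]
            refine Finset.sum_congr rfl fun φ _ => ?_
            have h := Char.classInner_irr_self φ.2
            have h2 : ((∑ x : H, ‖(φ : H → ℂ) x‖ ^ 2 : ℝ) : ℂ) = ((Nat.card H : ℝ) : ℂ) := by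
              have h3 := Char.card_mul_classInner (φ : H → ℂ) (φ : H → ℂ)
              rw [h, mul_one] at h3
              push_cast
              rw [h3]
              exact Finset.sum_congr rfl fun x _ => (Complex.mul_conj' _).symm
            exact_mod_cast h2
          rw [← Finset.mul_sum, e]
          field_simp [(Nat.cast_ne_zero.mpr Nat.card_pos.ne' : (Nat.card H : ℝ) ≠ 0)]
  -- average
  set R := primitiveRoots N ℂ
  have hlow : (R.card : ℝ) * ((Nat.card (ConjClasses X) : ℝ) * Nat.card (ConjClasses H)) ≤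
      ∑ z ∈ R, ∑ χ, ∑ φ, ‖σ z (c χ φ)‖ ^ 2 := by
    rw [Finset.sum_comm, ← Char.card_irr_eq_card_conjClasses, ← Char.card_irr_eq_card_conjClasses]
    simp only [Finset.sum_comm (s := R)]
    calc (R.card : ℝ) * ((Nat.card (IrrCharacter X) : ℝ) * Nat.card (IrrCharacter H))
        = ∑ _χ : IrrCharacter X, ∑ _φ : IrrCharacter H, (R.card : ℝ) := by
          simp [Nat.card_eq_fintype_card]; ring
      _ ≤ _ := Finset.sum_le_sum fun χ _ => Finset.sum_le_sum fun φ _ =>
          card_le_sum_aut σ hσ (hc_int χ φ) (hc_ne χ φ) (Nat.mul_pos hd Nat.card_pos) (hc_den χ φ)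
  have hhigh := Finset.sum_le_sum (s := R) fun z _ => hsum (σ z)
  rw [Finset.sum_const, nsmul_eq_mul] at hhigh
  have hR : (0 : ℝ) < R.card := by
    exact_mod_cast Finset.card_pos.mpr ⟨zeta N,
      (mem_primitiveRoots (NeZero.pos N)).mpr (zeta_isPrimitiveRoot (NeZero.ne N))⟩
  have hk : (0 : ℝ) < Nat.card (ConjClasses H) := by exact_mod_cast Nat.card_pos
  have := le_of_mul_le_mul_right (le_of_mul_le_mul_left (hlow.trans hhigh) hR) hk
  exact_mod_cast this

end Main

end Cfsg.Agent.KGV
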