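/-
Good functions for abelian groups, from Gauss sums (namespace `Cfsg.Agent.KGV`).

`good_gauss` : an action through the units of a finite field of the right size;
`exists_good_abelian` : every invariant subgroup carries a good function if `H` is abelian.
-/
import Cfsg.Agent.Lib.KGV.Criterion
import Cfsg.Agent.Lib.Coprime.Abelian
import Mathlib.NumberTheory.GaussSum
import Mathlib.NumberTheory.MulChar.Duality
import Mathlib.NumberTheory.MulChar.Lemmas
import Mathlib.RingTheory.IntegralDomain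
import Mathlib.Analysis.Complex.Polynomial.Basic

set_option autoImplicit false
set_option linter.style.haveILetI false

namespace Cfsg.Agent.KGV

open Cfsg Finset
open scoped ComplexConjugate IsMulCommutative

variable {X : Type*} [Group X] [Finite X] {p : ℕ} {H W : Subgroup X}

theorem norm_sq_gaussSum {F : Type*} [Field F] [Fintype F] {χ : MulChar F ℂ} (hχ : χ ≠ 1)
    {ψ : AddChar F ℂ} (hψ : ψ.IsPrimitive) : ‖gaussSum χ ψ‖ ^ 2 = (Fintype.card F : ℝ) := by
  have h := gaussSum_mul_gaussSum_eq_card hχ hψ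
  rw [← star_gaussSum_eq, Complex.star_def, Complex.mul_conj'] at h
  exact_mod_cast h

/-- An action through the units of a finite field. -/
theorem good_gauss [Fintype H] {F : Type*} [Field F] [Fintype F] (hp : p.Prime)
    (hF : ∀ x : F, p • x = 0) (hcard : Fintype.card F = Nat.card W)
    (hcomm : ∀ a ∈ H, ∀ b ∈ H, Commute a b) (u : H →* Fˣ)
    (hker : ∀ h, u h = 1 → ∀ w ∈ W, Commute (h : X) w)
    (hfpf : ∀ h, u h ≠ 1 → W ⊓ Subgroup.centralizer {(h : X)} = ⊥) :
    ∃ θ : H → ℂ, Good p H W θ := by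
  classical
  obtain ⟨ψ, hψ⟩ : ∃ ψ : AddChar F ℂ, ψ ≠ 1 := by
    obtain ⟨ψ, hψ⟩ := AddChar.exists_apply_ne_zero.mpr (one_ne_zero : (1 : F) ≠ 0)
    exact ⟨ψ, fun h => hψ (by rw [h, AddChar.one_apply])⟩
  have hψp : ψ.IsPrimitive := AddChar.IsPrimitive.of_ne_one hψ
  have hψroot : ∀ x, ψ x ^ p = 1 := fun x => by
    rw [← AddChar.map_nsmul_eq_pow, hF, AddChar.map_zero_eq_one]
  obtain ⟨e⟩ := MulChar.mulEquiv_units F ℂ
  let χ : H →* MulChar F ℂ := e.symm.toMonoidHom.comp u
  have hχ1 : ∀ h, χ h = 1 ↔ u h = 1 := fun h => e.symm.map_eq_one_iff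
  let θ : H → ℂ := fun h => -gaussSum (χ h) ψ
  have hθ1 : ∀ h, u h = 1 → θ h = 1 := fun h hh => by
    simp only [θ, (hχ1 h).mpr hh, gaussSum_one_left hψ, neg_neg]
  have hroot : ∀ (h : H) (x : F), x ≠ 0 → χ h x ^ Nat.card X = 1 := fun h x hx => by
    rw [← MulChar.pow_apply' _ Nat.card_pos.ne', ← map_pow]
    rw [show h ^ Nat.card X = 1 from Subtype.ext (by simpa using pow_card_eq_one' (x := (h : X))),
      map_one, MulChar.one_apply (isUnit_iff_ne_zero.mpr hx)]
  have hint : ∀ (h : H) (x : F), IsIntegral ℤ (χ h x) := fun h x => by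
    by_cases hx : x = 0
    · rw [hx, MulChar.map_zero]; exact isIntegral_zero
    · exact IsIntegral.of_pow Nat.card_pos (by rw [hroot h x hx]; exact isIntegral_one)
  refine ⟨θ, fun g x => ?_, ?_, hθ1 1 (map_one u), ?_, ?_, 1, one_pos, fun h => ?_⟩
  · have : x * g * x⁻¹ = g :=
      Subtype.ext (by simp [(hcomm _ x.2 _ g.2).eq])
    rw [this]
  · have hl : ∀ x : F, Coef (fun h : H => χ h x) := by
      intro x
      by_cases hx : x = 0
      · rw [show (fun h : H => χ h x) = 0 from funext fun h => by rw [hx, MulChar.map_zero]; rfl]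
        exact coef_character Char.isCharacter_zero
      · let l : H →* ℂ :=
          { toFun := fun h => χ h x
            map_one' := by rw [map_one, MulChar.one_apply (isUnit_iff_ne_zero.mpr hx)]
            map_mul' := fun a b => by rw [map_mul, MulChar.mul_apply] }
        exact coef_character (Char.isCharacter_of_hom l)
    have e : θ = (-1 : ℂ) • ∑ x : F, ψ x • fun h : H => χ h x := by
      funext h
      simp only [θ, gaussSum, Pi.smul_apply, Finset.sum_apply, smul_eq_mul, neg_one_mul]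
      congr 1
      exact Finset.sum_congr rfl fun x _ => mul_comm _ _
    rw [e]
    exact Coef.smul isIntegral_one.neg (coef_sum _ fun x _ => (hl x).smul
      (IsIntegral.of_pow hp.pos (by rw [hψroot]; exact isIntegral_one)))
  · rintro M hM h ⟨w, hw, hne⟩
    have hu : u h ≠ 1 := fun hu => hne (hker h hu w hw)
    have e : θ h = ∑ x : F, -(χ h x) * (ψ x - 1) := by
      simp only [θ, gaussSum, mul_sub, mul_one, Finset.sum_sub_distrib, Finset.sum_neg_distrib,
        MulChar.sum_eq_zero_of_ne_one (mt (hχ1 h).mp hu), neg_mul, neg_zero, sub_zero]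
    rw [e]
    exact inM_sum _ fun x _ => InM.mul_left (hint h x).neg (inM_sub_one hM (hψroot x))
  · intro σ h
    by_cases hu : u h = 1
    · rw [hθ1 h hu, map_one, norm_one, one_pow, one_mul]
      exact_mod_cast Subgroup.card_le_of_le inf_le_left
    · rw [hfpf h hu, Subgroup.card_bot, Nat.cast_one, mul_one, ← hcard]
      simp only [θ, map_neg, norm_neg]
      have e : σ (gaussSum (χ h) ψ) = gaussSum ((χ h).ringHomComp σ.toRingHom)
          (σ.toRingHom.toMonoidHom.compAddChar ψ) := by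
        simp [gaussSum, map_sum]
      rw [e, norm_sq_gaussSum]
      · intro h1
        refine mt (hχ1 h).mp hu (MulChar.ext fun a => σ.injective ?_)
        have := congrArg (fun f : MulChar F ℂ => f a) h1
        simpa using this
      · refine AddChar.IsPrimitive.of_ne_one fun h1 => hψ (DFunLike.ext _ _ fun a => σ.injective ?_)
        have := DFunLike.congr_fun h1 a
        simpa using this
  · haveI : NeZero (p * Nat.card X) := ⟨(Nat.mul_pos hp.pos Nat.card_pos).ne'⟩
    rw [Nat.cast_one, one_mul]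
    refine neg_mem (sum_mem fun x _ => ?_)
    by_cases hx : x = 0
    · rw [hx, MulChar.map_zero, zero_mul]; exact zero_mem _
    · exact mul_mem (root_mem (by rw [mul_comm, pow_mul, hroot h x hx, one_pow]))
        (root_mem (by rw [pow_mul, hψroot, one_pow]))

/-- Conjugation on an invariant subgroup, as an endomorphism. -/
def conjEnd (hinv : ∀ h ∈ H, ∀ w ∈ W, h * w * h⁻¹ ∈ W) :
    H →* AddMonoid.End (Additive W) where
  toFun h :=
    { toFun := fun a => Additive.ofMul ⟨(h : X) * (a.toMul : X) * (h : X)⁻¹, hinv h h.2 _ a.toMul.2⟩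
      map_zero' := congrArg Additive.ofMul (Subtype.ext (by simp))
      map_add' := fun a b => congrArg Additive.ofMul (Subtype.ext
        (by simp [mul_assoc])) }
  map_one' := AddMonoidHom.ext fun a => congrArg Additive.ofMul (Subtype.ext (by simp; rfl))
  map_mul' a b := AddMonoidHom.ext fun c => congrArg Additive.ofMul (Subtype.ext
    (by simp [mul_assoc]; rfl))

theorem conjEnd_coe (hinv : ∀ h ∈ H, ∀ w ∈ W, h * w * h⁻¹ ∈ W) (h : H) (a : Additive W) :
    (((conjEnd hinv h : AddMonoid.End (Additive W)) a).toMul : X) =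
      (h : X) * (a.toMul : X) * (h : X)⁻¹ := rfl

/-- The irreducible case. -/
theorem exists_good_irreducible [Fintype H] (hp : p.Prime) (hexp : ∀ w ∈ W, w ^ p = 1)
    (hWab : ∀ a ∈ W, ∀ b ∈ W, Commute a b) (hcomm : ∀ a ∈ H, ∀ b ∈ H, Commute a b)
    (hinv : ∀ h ∈ H, ∀ w ∈ W, h * w * h⁻¹ ∈ W) (hW : W ≠ ⊥)
    (hmin : ∀ S ≤ W, (∀ h ∈ H, ∀ w ∈ S, h * w * h⁻¹ ∈ S) → S = ⊥ ∨ S = W) :
    ∃ θ : H → ℂ, Good p H W θ := by
  classical
  haveI : IsMulCommutative W := ⟨⟨fun a b => Subtype.ext (hWab a a.2 b b.2)⟩⟩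
  let T := conjEnd hinv
  have hTc : ∀ x ∈ Set.range T, ∀ y ∈ Set.range T, x * y = y * x := by
    rintro _ ⟨a, rfl⟩ _ ⟨b, rfl⟩
    rw [← map_mul, ← map_mul, show a * b = b * a from Subtype.ext (hcomm a a.2 b b.2).eq]
  let R := Subring.closure (Set.range T)
  letI : CommRing R := Subring.closureCommRingOfComm hTc
  haveI : Finite R := Finite.of_injective
    (fun r : R => ((r : AddMonoid.End (Additive W)) : Additive W → Additive W))
    fun a b e => Subtype.ext (DFunLike.coe_injective e)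
  have hTR : ∀ h, T h ∈ R := fun h => Subring.subset_closure ⟨h, rfl⟩
  -- the invariant subgroup cut out by an additive subgroup stable under `T`
  have hsub : ∀ S : AddSubgroup (Additive W), (∀ h, ∀ a ∈ S, T h a ∈ S) → S = ⊥ ∨ S = ⊤ := by
    intro S hS
    let S' : Subgroup X := (AddSubgroup.toSubgroup' S).map W.subtype
    have hS' : ∀ w, w ∈ S' ↔ ∃ hw : w ∈ W, Additive.ofMul (⟨w, hw⟩ : W) ∈ S := fun w => by
      constructor
      · rintro ⟨⟨a, ha⟩, hm, rfl⟩; exact ⟨ha, hm⟩
      · rintro ⟨hw, hm⟩; exact ⟨⟨w, hw⟩, hm, rfl⟩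
    rcases hmin S' (fun w hw => ((hS' w).mp hw).1) (fun h hh w hw => by
      obtain ⟨hwW, hm⟩ := (hS' w).mp hw
      exact (hS' _).mpr ⟨hinv h hh w hwW, hS ⟨h, hh⟩ _ hm⟩) with h0 | h1
    · refine Or.inl (eq_bot_iff.mpr fun a ha => ?_)
      have : (a.toMul : X) ∈ S' := (hS' _).mpr ⟨a.toMul.2, ha⟩
      rw [h0, Subgroup.mem_bot] at this
      exact AddSubgroup.mem_bot.mpr (congrArg Additive.ofMul (Subtype.ext this : a.toMul = 1))
    · refine Or.inr (eq_top_iff.mpr fun a _ => ?_)
      obtain ⟨_, hm⟩ := (hS' (a.toMul : X)).mp (h1.symm ▸ a.toMul.2)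
      exact hm
  have hRT : ∀ (r : R) (h : H) (a : Additive W),
      (r : AddMonoid.End (Additive W)) (T h a) = T h ((r : AddMonoid.End (Additive W)) a) :=
    fun r h a => DFunLike.congr_fun (congrArg Subtype.val (mul_comm r (⟨T h, hTR h⟩ : R))) a
  have hker : ∀ r : R, r ≠ 0 → ∀ a, (r : AddMonoid.End (Additive W)) a = 0 → a = 0 := by
    intro r hr a ha
    let rf : Additive W →+ Additive W := (r : AddMonoid.End (Additive W))
    rcases hsub rf.ker (fun h b hb =>
      AddMonoidHom.mem_ker.mpr ((hRT r h b).trans ((congrArg _ (AddMonoidHom.mem_ker.mp hb :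
        (r : AddMonoid.End (Additive W)) b = 0)).trans (map_zero (T h))))) with h0 | h1
    · exact AddSubgroup.mem_bot.mp (h0 ▸ (AddMonoidHom.mem_ker.mpr ha))
    · exact absurd (Subtype.ext (AddMonoidHom.ext fun b =>
        AddMonoidHom.mem_ker.mp (h1.symm ▸ AddSubgroup.mem_top b))) hr
  haveI : Nontrivial (Additive W) := by
    haveI : Nontrivial W := (Subgroup.nontrivial_iff_ne_bot W).mpr hW
    infer_instance
  haveI : Nontrivial R := ⟨⟨0, 1, fun e => by
    obtain ⟨a, ha⟩ := exists_ne (0 : Additive W)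
    exact ha (DFunLike.congr_fun (congrArg Subtype.val e) a).symm⟩⟩
  haveI : NoZeroDivisors R := ⟨fun {r s} hrs => by
    by_contra hcon
    push Not at hcon
    refine hcon.2 (Subtype.ext (AddMonoidHom.ext fun a => ?_))
    exact hker r hcon.1 _ (DFunLike.congr_fun (congrArg Subtype.val hrs) a)⟩
  haveI : IsDomain R := NoZeroDivisors.to_isDomain R
  letI := Fintype.ofFinite R
  letI : Field R := Fintype.fieldOfDomain R
  obtain ⟨w₀, hw₀⟩ := exists_ne (0 : Additive W)
  let ev : R →+ Additive W :=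
    { toFun := fun r => (r : AddMonoid.End (Additive W)) w₀
      map_zero' := rfl
      map_add' := fun _ _ => rfl }
  have hev : Function.Bijective ev := by
    constructor
    · refine (injective_iff_map_eq_zero ev).mpr fun r hr => ?_
      by_contra hr0
      exact hw₀ (hker r hr0 w₀ hr)
    · rcases hsub ev.range (fun h a ha => by
        obtain ⟨r, rfl⟩ := ha
        exact ⟨⟨T h, hTR h⟩ * r, rfl⟩) with h0 | h1
      · exact absurd (AddSubgroup.mem_bot.mp (h0 ▸ (⟨1, rfl⟩ : w₀ ∈ ev.range))) hw₀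
      · exact AddMonoidHom.range_eq_top.mp h1
  let uR : H →* R := T.codRestrict R.toSubmonoid hTR
  refine good_gauss (F := R) hp (fun r => Subtype.ext (AddMonoidHom.ext fun a => ?_)) ?_ hcomm
    uR.toHomUnits ?_ ?_
  · show p • (r : AddMonoid.End (Additive W)) a = 0
    exact congrArg Additive.ofMul (Subtype.ext (by
      simpa using hexp _ ((r : AddMonoid.End (Additive W)) a).toMul.2) :
      ((r : AddMonoid.End (Additive W)) a).toMul ^ p = 1)
  · rw [← Nat.card_eq_fintype_card, Nat.card_congr (Equiv.ofBijective ev hev)]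
    exact Nat.card_congr Additive.toMul
  · intro h hu w hw
    have h1 : T h = 1 := congrArg Subtype.val (congrArg Units.val hu)
    have h2 := congrArg (fun f : AddMonoid.End (Additive W) => ((f (Additive.ofMul ⟨w, hw⟩)).toMul : X)) h1
    simp only [T, conjEnd_coe, toMul_ofMul, AddMonoid.End.coe_one, id_eq] at h2
    exact mul_inv_eq_iff_eq_mul.mp h2
  · intro h hu
    refine (Subgroup.eq_bot_iff_forall _).mpr fun w hw => ?_
    have hne : uR h - 1 ≠ 0 := fun e => hu (Units.ext (sub_eq_zero.mp e))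
    have hfix : T h (Additive.ofMul ⟨w, hw.1⟩) = Additive.ofMul ⟨w, hw.1⟩ :=
      congrArg Additive.ofMul (Subtype.ext (mul_inv_eq_iff_eq_mul.mpr
        (Subgroup.mem_centralizer_singleton_iff.mp hw.2).symm))
    have := hker _ hne (Additive.ofMul ⟨w, hw.1⟩) (sub_eq_zero.mpr hfix)
    exact congrArg Subtype.val (congrArg Additive.toMul this)

/-- Every invariant subgroup of an elementary abelian group carries a good function. -/
theorem exists_good_abelian [Fintype H] (hp : p.Prime) (hexp : ∀ w ∈ W, w ^ p = 1)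
    (hWab : ∀ a ∈ W, ∀ b ∈ W, Commute a b) (hcomm : ∀ a ∈ H, ∀ b ∈ H, Commute a b)
    (hcop : ¬ p ∣ Nat.card H) (hinv : ∀ h ∈ H, ∀ w ∈ W, h * w * h⁻¹ ∈ W) :
    ∃ θ : H → ℂ, Good p H W θ := by
  classical
  induction hn : Nat.card W using Nat.strong_induction_on generalizing W with
  | _ n ih =>
    by_cases hW : W = ⊥
    · exact ⟨1, good_one fun h _ w hw => by rw [show w = 1 by simpa [hW] using hw]; exact Commute.one_right h⟩
    by_cases hmin : ∀ S ≤ W, (∀ h ∈ H, ∀ w ∈ S, h * w * h⁻¹ ∈ S) → S = ⊥ ∨ S = W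
    · exact exists_good_irreducible hp hexp hWab hcomm hinv hW hmin
    push Not at hmin
    obtain ⟨W₁, hle, hinv₁, hne, hneW⟩ := hmin
    haveI : IsMulCommutative W := ⟨⟨fun a b => Subtype.ext (hWab a a.2 b b.2)⟩⟩
    haveI : Fact p.Prime := ⟨hp⟩
    have hnorm : ∀ S : Subgroup X, (∀ h ∈ H, ∀ w ∈ S, h * w * h⁻¹ ∈ S) →
        H ≤ Subgroup.normalizer (S : Set X) := fun S hS h hh => by
      refine Subgroup.mem_normalizer_iff.mpr fun w => ⟨hS h hh w, fun hw => ?_⟩
      have := hS h⁻¹ (inv_mem hh) _ hw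
      simpa [mul_assoc] using this
    obtain ⟨C, hCW, hdisj, hsup⟩ : ∃ C : Subgroup X, C ≤ W ∧ W₁ ⊓ C = ⊥ ∧ W₁ ⊔ C = W := by
      obtain ⟨C, ⟨hCW, hC⟩, hmax⟩ := (Set.toFinite {C : Subgroup X | C ≤ W ∧ W₁ ⊓ C = ⊥}).exists_maximal
        ⟨⊥, bot_le, inf_bot_eq _⟩
      refine ⟨C, hCW, hC, le_antisymm (sup_le hle hCW) fun x hx => ?_⟩
      by_contra hxn
      have hle' : C ⊔ Subgroup.zpowers x ≤ W := sup_le hCW (Subgroup.zpowers_le.mpr hx)
      have hbot : W₁ ⊓ (C ⊔ Subgroup.zpowers x) = ⊥ := by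
        refine (Subgroup.eq_bot_iff_forall _).mpr ?_
        rintro a ⟨ha₁, ha₂⟩
        have hnC : Subgroup.zpowers x ≤ Subgroup.normalizer (C : Set X) := fun y hy => by
          refine Subgroup.mem_normalizer_iff.mpr fun c => ?_
          have hyW : y ∈ W := Subgroup.zpowers_le.mpr hx hy
          constructor
          · intro hc
            rwa [← (hWab c (hCW hc) y hyW).eq, mul_inv_cancel_right]
          · intro hc
            have hcW : c ∈ W := by
              have := mul_mem (mul_mem (inv_mem hyW) (hCW hc)) hyW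
              simpa [mul_assoc] using this
            rwa [← (hWab c hcW y hyW).eq, mul_inv_cancel_right] at hc
        replace ha₂ : a ∈ ((C ⊔ Subgroup.zpowers x : Subgroup X) : Set X) := ha₂
        rw [Subgroup.coe_mul_of_right_le_normalizer_left _ _ hnC] at ha₂
        obtain ⟨c, hc, _, ⟨i, rfl⟩, rfl⟩ := ha₂
        simp only at ha₁ ⊢
        by_cases hi : (p : ℤ) ∣ i
        · obtain ⟨j, rfl⟩ := hi
          rw [zpow_mul, zpow_natCast, hexp x hx, one_zpow, mul_one] at ha₁ ⊢
          exact Subgroup.mem_bot.mp (hC ▸ Subgroup.mem_inf.mpr ⟨ha₁, hc⟩)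
        · refine absurd ?_ hxn
          obtain ⟨s, t, hst⟩ := (Nat.prime_iff_prime_int.mp hp).coprime_iff_not_dvd.mpr hi
          have hxi : x ^ i ∈ W₁ ⊔ C := by
            have h3 := mul_mem (inv_mem (Subgroup.mem_sup_right hc : c ∈ W₁ ⊔ C))
              (Subgroup.mem_sup_left ha₁ : c * x ^ i ∈ W₁ ⊔ C)
            rwa [inv_mul_cancel_left] at h3
          have e : x = (x ^ (p : ℤ)) ^ s * (x ^ i) ^ t := by
            rw [← zpow_mul, ← zpow_mul, ← zpow_add, mul_comm (p : ℤ), mul_comm i, hst, zpow_one]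
          rw [e, zpow_natCast, hexp x hx, one_zpow, one_mul]
          exact zpow_mem hxi t
      exact hxn (Subgroup.mem_sup_right (hmax ⟨hle', hbot⟩ le_sup_left
        (Subgroup.mem_sup_right (Subgroup.mem_zpowers x))))
    have hpW : IsPGroup p W := fun w => ⟨1, Subtype.ext (by simpa using hexp w w.2)⟩
    obtain ⟨m, hm⟩ := IsPGroup.iff_card.mp hpW
    have hcopW : (Nat.card H).Coprime (Nat.card W) := by
      rw [hm]; exact ((hp.coprime_iff_not_dvd.mpr hcop).symm).pow_right m
    obtain ⟨W₂, hW₂, hn₂, hdisj₂, hsup₂⟩ := Coprime.exists_invariant_complement (hnorm W hinv)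
      hcopW hle (hnorm W₁ hinv₁) hCW hdisj hsup
    have hinv₂ : ∀ h ∈ H, ∀ w ∈ W₂, h * w * h⁻¹ ∈ W₂ := fun h hh w hw =>
      (Subgroup.mem_normalizer_iff.mp (hn₂ hh) w).mp hw
    have hlt₁ : Nat.card W₁ < n := hn ▸ Set.Finite.card_lt_card (Set.toFinite _)
      (SetLike.coe_ssubset_coe.mpr (lt_of_le_of_ne hle hneW))
    have hne₂ : W₂ ≠ W := fun h => hne (by rw [← hdisj₂, h, inf_eq_left.mpr hle])
    have hlt₂ : Nat.card W₂ < n := hn ▸ Set.Finite.card_lt_card (Set.toFinite _)
      (SetLike.coe_ssubset_coe.mpr (lt_of_le_of_ne hW₂ hne₂))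
    obtain ⟨θ₁, h₁⟩ := ih _ hlt₁ (fun w hw => hexp w (hle hw))
      (fun a ha b hb => hWab a (hle ha) b (hle hb)) hinv₁ rfl
    obtain ⟨θ₂, h₂⟩ := ih _ hlt₂ (fun w hw => hexp w (hW₂ hw))
      (fun a ha b hb => hWab a (hW₂ ha) b (hW₂ hb)) hinv₂ rfl
    exact ⟨θ₁ * θ₂, hsup₂ ▸ h₁.mul h₂ (fun a ha b hb => hWab a (hle ha) b (hW₂ hb)) hdisj₂ hinv₁ hinv₂⟩

end Cfsg.Agent.KGV
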