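/-
Good functions for representations over `ZMod p` (namespace `Cfsg.Agent.KGV`).

* `GoodRep p ρ θ` : the properties of `Good` for a representation, `GoodRep.good` transfers them
* `fixSpace`, `moveSpace` : kernel and range of `ρ h - 1`, complements in coprime characteristic
* `exists_good_symm` : a nondegenerate invariant symmetric form
-/
import Cfsg.Agent.Lib.KGV.Criterion
import Cfsg.Agent.Lib.Char.Perm
import Mathlib.Analysis.Fourier.FiniteAbelian.PontryaginDuality
import Mathlib.Analysis.Complex.Polynomial.Basic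
import Mathlib.FieldTheory.Finite.Basic
import Mathlib.LinearAlgebra.BilinearForm.Properties

set_option autoImplicit false
set_option linter.style.haveILetI false

namespace Cfsg.Agent.KGV

open Cfsg Finset
open scoped ComplexConjugate

theorem zRing_mono {N N' : ℕ} [NeZero N] [NeZero N'] (h : N ∣ N') : zRing N ≤ zRing N' := by
  refine Algebra.adjoin_le (Set.singleton_subset_iff.mpr (root_mem ?_))
  obtain ⟨k, rfl⟩ := h
  rw [pow_mul, (GaloisAvg.zeta_isPrimitiveRoot (NeZero.ne N)).pow_eq_one, one_pow]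

theorem inM_of_sq {p : ℕ} {M : Ideal AlgInt} (hM : IsPModular p M) {z : ℂ} (hz : IsIntegral ℤ z)
    (h : InM M (z * z)) : InM M z := by
  obtain ⟨a, ha, e⟩ := h
  have e' : a = ⟨z, hz⟩ * ⟨z, hz⟩ := Subtype.ext e
  exact ⟨⟨z, hz⟩, (hM.2.1.isPrime.mem_or_mem (e' ▸ ha)).elim id id, rfl⟩

section Rep

variable {p : ℕ} [Fact p.Prime] {H : Type*} [Group H] {U : Type*} [AddCommGroup U]
  [Module (ZMod p) U]

/-- The fixed vectors of `h`. -/
abbrev fixSpace (ρ : Representation (ZMod p) H U) (h : H) : Submodule (ZMod p) U :=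
  LinearMap.ker (ρ h - 1)

/-- The range of `ρ h - 1`. -/
abbrev moveSpace (ρ : Representation (ZMod p) H U) (h : H) : Submodule (ZMod p) U :=
  LinearMap.range (ρ h - 1)

theorem mem_fixSpace {ρ : Representation (ZMod p) H U} {h : H} {u : U} :
    u ∈ fixSpace ρ h ↔ ρ h u = u := by
  rw [LinearMap.mem_ker, LinearMap.sub_apply, Module.End.one_apply, sub_eq_zero]

/-- The properties of a good function, for a representation. -/
structure GoodRep (p : ℕ) {H : Type*} [Group H] [Fintype H] {U : Type*} [AddCommGroup U]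
    [Module (ZMod p) U] (ρ : Representation (ZMod p) H U) (θ : H → ℂ) : Prop where
  cls : IsClassFunction H θ
  coef : Coef θ
  one : θ 1 = 1
  mem : ∀ M : Ideal AlgInt, IsPModular p M → ∀ h : H, (∃ u, ρ h u ≠ u) → InM M (θ h)
  bound : ∀ (σ : ℂ ≃+* ℂ) (h : H),
    ‖σ (θ h)‖ ^ 2 * Nat.card (LinearMap.ker (ρ h - 1)) ≤ Nat.card U
  denom : ∃ d : ℕ, 0 < d ∧ ∀ h : H, (d : ℂ) * θ h ∈ zRing (p * Nat.card H)

/-- Transfer to a subgroup. -/
theorem GoodRep.good {X : Type*} [Group X] [Finite X] {H' W : Subgroup X} [Fintype H']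
    {ρ : Representation (ZMod p) H' U} {θ : H' → ℂ} (hθ : GoodRep p ρ θ) (f : U → X)
    (hf : Function.Injective f) (hW : ∀ x, x ∈ W ↔ ∃ u, f u = x)
    (hequiv : ∀ (h : H') u, f (ρ h u) = (h : X) * f u * (h : X)⁻¹) : Good p H' W θ := by
  have hfix : ∀ (h : H') u, Commute (h : X) (f u) ↔ ρ h u = u := fun h u => by
    rw [← hf.eq_iff, hequiv, mul_inv_eq_iff_eq_mul]
    exact Iff.rfl
  refine ⟨hθ.cls, hθ.coef, hθ.one, fun M hM h ⟨w, hw, hne⟩ => ?_, fun σ h => ?_, ?_⟩
  · obtain ⟨u, rfl⟩ := (hW w).mp hw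
    exact hθ.mem M hM h ⟨u, fun e => hne ((hfix h u).mpr e)⟩
  · have e1 : Nat.card U = Nat.card W :=
      Nat.card_congr (Equiv.ofBijective (fun u => (⟨f u, (hW _).mpr ⟨u, rfl⟩⟩ : W))
        ⟨fun a b e => hf (Subtype.ext_iff.mp e), fun ⟨x, hx⟩ => by
          obtain ⟨u, rfl⟩ := (hW x).mp hx; exact ⟨u, rfl⟩⟩)
    have e2 : Nat.card (LinearMap.ker (ρ h - 1)) =
        Nat.card (W ⊓ Subgroup.centralizer {(h : X)} : Subgroup X) := by
      refine Nat.card_congr (Equiv.ofBijective (fun u : LinearMap.ker (ρ h - 1) =>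
        (⟨f u, (hW _).mpr ⟨u, rfl⟩, Subgroup.mem_centralizer_singleton_iff.mpr
          ((hfix h u).mpr (mem_fixSpace.mp u.2)).symm⟩ :
          (W ⊓ Subgroup.centralizer {(h : X)} : Subgroup X)))
        ⟨fun a b e => Subtype.ext (hf (Subtype.ext_iff.mp e)), fun ⟨x, hx, hxc⟩ => ?_⟩)
      obtain ⟨u, rfl⟩ := (hW x).mp hx
      exact ⟨⟨u, mem_fixSpace.mpr ((hfix h u).mp (Subgroup.mem_centralizer_singleton_iff.mp hxc).symm)⟩,
        rfl⟩
    rw [← e1, ← e2]
    exact hθ.bound σ h
  · obtain ⟨d, hd, hm⟩ := hθ.denom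
    haveI : NeZero (p * Nat.card H') := ⟨(Nat.mul_pos (Fact.out : p.Prime).pos Nat.card_pos).ne'⟩
    haveI : NeZero (p * Nat.card X) := ⟨(Nat.mul_pos (Fact.out : p.Prime).pos Nat.card_pos).ne'⟩
    exact ⟨d, hd, fun h => zRing_mono (Nat.mul_dvd_mul_left p (Subgroup.card_subgroup_dvd_card H'))
      (hm h)⟩

variable {ρ : Representation (ZMod p) H U}

theorem isCompl_fix_move [Finite H] [Finite U] (hcop : ¬ p ∣ Nat.card H) (h : H) :
    IsCompl (fixSpace ρ h) (moveSpace ρ h) := by
  have hd : Disjoint (fixSpace ρ h) (moveSpace ρ h) := by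
    refine Submodule.disjoint_def.mpr fun c hc hc' => ?_
    obtain ⟨u, rfl⟩ := hc'
    set c := (ρ h - 1) u with hcdef
    have hcfix : ρ h c = c := mem_fixSpace.mp hc
    have key : ∀ n : ℕ, ρ (h ^ n) u = u + (n : ZMod p) • c := by
      intro n
      induction n with
      | zero => simp
      | succ n ih =>
        rw [pow_succ', map_mul, Module.End.mul_apply, ih, map_add, map_smul, hcfix, Nat.cast_succ,
          add_smul, one_smul, hcdef, LinearMap.sub_apply, Module.End.one_apply]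
        abel
    have h1 := key (Nat.card H)
    rw [pow_card_eq_one', map_one, Module.End.one_apply, left_eq_add, smul_eq_zero] at h1
    exact h1.resolve_left fun h0 => hcop ((CharP.cast_eq_zero_iff (ZMod p) p _).mp h0)
  refine (Submodule.isCompl_iff_disjoint _ _ ?_).mpr hd
  rw [add_comm, LinearMap.finrank_range_add_finrank_ker]

theorem card_fix_mul_move [Finite H] [Finite U] (hcop : ¬ p ∣ Nat.card H) (h : H) :
    Nat.card (fixSpace ρ h) * Nat.card (moveSpace ρ h) = Nat.card U := by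
  rw [← Nat.card_prod]
  exact Nat.card_congr (Submodule.prodEquivOfIsCompl _ _ (isCompl_fix_move hcop h)).toEquiv

theorem exists_card_fix [Finite U] (h : H) :
    ∃ j ≤ Module.finrank (ZMod p) U, Nat.card (fixSpace ρ h) = p ^ j :=
  ⟨_, Submodule.finrank_le _, by rw [Module.natCard_eq_pow_finrank (K := ZMod p), Nat.card_zmod]⟩

/-- Class functions of conjugation type. -/
theorem card_fix_conj (g x : H) :
    Nat.card (fixSpace ρ (x * g * x⁻¹)) = Nat.card (fixSpace ρ g) := by
  refine Nat.card_congr (Equiv.ofBijective (fun u : fixSpace ρ (x * g * x⁻¹) =>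
    (⟨ρ x⁻¹ u, mem_fixSpace.mpr ?_⟩ : fixSpace ρ g)) ⟨fun a b e => Subtype.ext ?_, fun u => ?_⟩)
  · have h1 := congrArg (ρ x⁻¹) (mem_fixSpace.mp u.2)
    rwa [← Module.End.mul_apply, ← map_mul, show x⁻¹ * (x * g * x⁻¹) = g * x⁻¹ by group, map_mul,
      Module.End.mul_apply] at h1
  · have := congrArg (ρ x) (Subtype.ext_iff.mp e)
    simpa [← Module.End.mul_apply, ← map_mul] using this
  · refine ⟨⟨ρ x u, mem_fixSpace.mpr ?_⟩, Subtype.ext (by simp [← Module.End.mul_apply, ← map_mul])⟩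
    rw [← Module.End.mul_apply, ← map_mul, inv_mul_cancel_right, map_mul, Module.End.mul_apply,
      mem_fixSpace.mp u.2]

end Rep

/-! ### Additive characters of `ZMod p` -/

section Chars

variable {p : ℕ} [Fact p.Prime]

theorem addChar_pow (ψ : AddChar (ZMod p) ℂ) (z : ZMod p) : ψ z ^ p = 1 := by
  rw [← AddChar.map_nsmul_eq_pow, nsmul_eq_mul, ZMod.natCast_self, zero_mul,
    AddChar.map_zero_eq_one]

theorem addChar_eq_one_iff {ψ : AddChar (ZMod p) ℂ} (hψ : ψ ≠ 1) {z : ZMod p} :
    ψ z = 1 ↔ z = 0 := by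
  refine ⟨fun h => ?_, fun h => by rw [h, AddChar.map_zero_eq_one]⟩
  by_contra hz
  refine hψ (DFunLike.ext _ _ fun a => ?_)
  obtain ⟨n, hn⟩ : ∃ n : ℕ, a = n • z := ⟨(a / z).val, by
    rw [nsmul_eq_mul, ZMod.natCast_val, ZMod.cast_id, div_mul_cancel₀ a hz]⟩
  rw [hn, AddChar.map_nsmul_eq_pow, h, one_pow, AddChar.one_apply]

theorem exists_addChar : ∃ ψ : AddChar (ZMod p) ℂ, ψ ≠ 1 := by
  obtain ⟨ψ, hψ⟩ := AddChar.exists_apply_ne_zero.mpr (one_ne_zero : (1 : ZMod p) ≠ 0)
  exact ⟨ψ, fun h => hψ (by rw [h, AddChar.one_apply])⟩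

theorem sum_char_lin {R : Type*} [AddCommGroup R] [Module (ZMod p) R] [Fintype R]
    {ψ : AddChar (ZMod p) ℂ} (hψ : ψ ≠ 1) {l : R →ₗ[ZMod p] ZMod p} (hl : l ≠ 0) :
    ∑ r, ψ (l r) = 0 := by
  have hne : ψ.compAddMonoidHom l.toAddMonoidHom ≠ 1 := fun h => hl (LinearMap.ext fun r =>
    (addChar_eq_one_iff hψ).mp (DFunLike.congr_fun h r))
  exact AddChar.sum_eq_zero_of_ne_one hne

/-- The square of a nondegenerate Gauss sum. -/
theorem norm_sq_quad {R : Type*} [AddCommGroup R] [Module (ZMod p) R] [Fintype R]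
    {ψ : AddChar (ZMod p) ℂ} (hψ : ψ ≠ 1) (Q : R → ZMod p) (P : R →ₗ[ZMod p] R →ₗ[ZMod p] ZMod p)
    (hQ : ∀ t w, Q (w + t) = Q w + Q t + P t w) (hP : ∀ t, P t = 0 → t = 0) :
    ‖∑ r, ψ (Q r)‖ ^ 2 = (Nat.card R : ℝ) := by
  classical
  have hQ0 : Q 0 = 0 := by simpa using hQ 0 0
  have key : (∑ r, ψ (Q r)) * conj (∑ r, ψ (Q r)) = (Nat.card R : ℂ) := by
    rw [map_sum, Finset.sum_mul_sum, Finset.sum_comm]
    have e : ∀ w, ∑ u, ψ (Q u) * conj (ψ (Q w)) = ∑ t, ψ (Q t) * ψ (P t w) := fun w => by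
      refine (Fintype.sum_equiv (Equiv.addLeft w) _ _ fun t => ?_).symm
      rw [← AddChar.map_neg_eq_conj, ← AddChar.map_add_eq_mul, ← AddChar.map_add_eq_mul,
        Equiv.coe_addLeft, hQ]
      congr 1
      ring
    rw [Finset.sum_congr rfl fun w _ => e w, Finset.sum_comm]
    simp only [← Finset.mul_sum]
    rw [Finset.sum_eq_single (0 : R) (fun t _ ht => by rw [sum_char_lin hψ (mt (hP t) ht), mul_zero])
      (fun h => absurd (Finset.mem_univ _) h)]
    simp [hQ0, Nat.card_eq_fintype_card]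
  rw [Complex.mul_conj'] at key
  exact_mod_cast key

end Chars

/-! ### Symmetric forms -/

theorem exists_good_symm {p : ℕ} [Fact p.Prime] {H : Type*} [Group H] [Fintype H]
    (hcop : ¬ p ∣ Nat.card H) {U : Type*} [AddCommGroup U] [Module (ZMod p) U] [Fintype U]
    (ρ : Representation (ZMod p) H U) (S : LinearMap.BilinForm (ZMod p) U)
    (hsym : ∀ x y, S x y = S y x) (hinv : ∀ g x y, S (ρ g x) (ρ g y) = S x y)
    (hnd : ∀ x, (∀ y, S x y = 0) → x = 0) : ∃ θ : H → ℂ, GoodRep p ρ θ := by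
  classical
  have hp : p.Prime := Fact.out
  obtain ⟨ψ, hψ⟩ := exists_addChar (p := p)
  let Q : H → U → ZMod p := fun h u => S u ((ρ h - 1) u)
  let P : H → U → U → ZMod p := fun h t w => S t ((ρ h - 1) w) + S w ((ρ h - 1) t)
  have hQ : ∀ h t w, Q h (w + t) = Q h w + Q h t + P h t w := fun h t w => by
    simp only [Q, P, map_add, LinearMap.add_apply]; ring
  have hPfix : ∀ h t, t ∈ fixSpace ρ h → ∀ w, P h t w = 0 := fun h t ht w => by
    simp only [P, LinearMap.sub_apply, Module.End.one_apply, map_sub, mem_fixSpace.mp ht, sub_self,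
      add_zero]
    have := hinv h t w
    rw [mem_fixSpace.mp ht] at this
    rw [this, sub_self]
  have hPsymm : ∀ h t w, P h t w = P h w t := fun h t w => by simp only [P]; ring
  -- the polar form is nondegenerate on the moved space
  have hPnd : ∀ h, ∀ t ∈ moveSpace ρ h, (∀ w ∈ moveSpace ρ h, P h t w = 0) → t = 0 := by
    intro h t ht hw
    have hc := isCompl_fix_move (ρ := ρ) hcop h
    have hall : ∀ w, P h t w = 0 := fun w => by
      obtain ⟨a, ha, b, hb, rfl⟩ := Submodule.mem_sup.mp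
        (hc.sup_eq_top.symm ▸ Submodule.mem_top (x := w) : w ∈ fixSpace ρ h ⊔ moveSpace ρ h)
      have h1 : P h t (a + b) = P h t a + P h t b := by
        simp only [P, map_add, LinearMap.add_apply]; ring
      rw [h1, hw b hb, hPsymm h t a, hPfix h a ha, add_zero]
    have h2 : ρ h t + ρ h⁻¹ t - t - t = 0 := hnd _ fun w => by
      have h3 := hall w
      have h4 : S t (ρ h w) = S (ρ h⁻¹ t) w := by
        have := hinv h (ρ h⁻¹ t) w
        rwa [← Module.End.mul_apply, ← map_mul, mul_inv_cancel, map_one, Module.End.one_apply] at this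
      simp only [P, LinearMap.sub_apply, Module.End.one_apply, map_sub, h4] at h3
      rw [hsym w (ρ h t), hsym w t] at h3
      simp only [map_sub, map_add, LinearMap.sub_apply, LinearMap.add_apply]
      linear_combination h3
    have h5 : (ρ h - 1) ((ρ h - 1) t) = 0 := by
      have h6 := congrArg (ρ h) h2
      simp only [map_sub, map_add, map_zero, ← Module.End.mul_apply, ← map_mul, mul_inv_cancel,
        map_one, Module.End.one_apply] at h6
      simp only [LinearMap.sub_apply, Module.End.one_apply, map_sub]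
      rw [← Module.End.mul_apply, ← map_mul]
      rw [← h6]
      abel
    have h7 : (ρ h - 1) t = 0 := Submodule.disjoint_def.mp hc.disjoint _
      (LinearMap.mem_ker.mpr h5) ⟨t, rfl⟩
    exact Submodule.disjoint_def.mp hc.disjoint _ (LinearMap.mem_ker.mpr h7) ht
  let G : H → ℂ := fun h => ∑ u : U, ψ (Q h u)
  let π : H → ℂ := fun h => (Nat.card (fixSpace ρ h) : ℂ)
  let θ : H → ℂ := fun h => ∑ r : moveSpace ρ h, ψ (Q h r)
  have hG : ∀ h, G h = π h * θ h := by
    intro h
    haveI := Fintype.ofFinite (fixSpace ρ h)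
    simp only [G, π, θ]
    rw [← Fintype.sum_equiv (Submodule.prodEquivOfIsCompl _ _ (isCompl_fix_move hcop h)).toEquiv
      (fun q : fixSpace ρ h × moveSpace ρ h => ψ (Q h ((q.1 : U) + (q.2 : U)))) (fun u => ψ (Q h u)) (fun q => rfl), Fintype.sum_prod_type]
    have e : ∀ (a : fixSpace ρ h) (b : moveSpace ρ h), Q h ((a : U) + b) = Q h b := fun a b => by
      rw [hQ, hPsymm, hPfix h a a.2, add_zero]
      simp only [Q, LinearMap.sub_apply, Module.End.one_apply, mem_fixSpace.mp a.2, sub_self,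
        map_zero, zero_add]
    simp only [e, Finset.sum_const, Finset.card_univ, nsmul_eq_mul, Nat.card_eq_fintype_card]
  have hπ0 : ∀ h, π h ≠ 0 := fun h => Nat.cast_ne_zero.mpr Nat.card_pos.ne'
  have hnorm : ∀ (χ : AddChar (ZMod p) ℂ), χ ≠ 1 → ∀ h,
      ‖∑ r : moveSpace ρ h, χ (Q h r)‖ ^ 2 = (Nat.card (moveSpace ρ h) : ℝ) := by
    intro χ hχ h
    let Pl : moveSpace ρ h →ₗ[ZMod p] moveSpace ρ h →ₗ[ZMod p] ZMod p :=
      LinearMap.mk₂ (ZMod p) (fun t w => P h t w)
        (fun a b c => by simp only [P, Submodule.coe_add, map_add, LinearMap.add_apply]; ring)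
        (fun s a c => by simp only [P, SetLike.val_smul, map_smul, LinearMap.smul_apply, smul_eq_mul]; ring)
        (fun a b c => by simp only [P, Submodule.coe_add, map_add, LinearMap.add_apply]; ring)
        (fun s a c => by simp only [P, SetLike.val_smul, map_smul, LinearMap.smul_apply, smul_eq_mul]; ring)
    exact norm_sq_quad hχ (fun r : moveSpace ρ h => Q h r) Pl (fun t w => hQ h t w) fun t ht =>
      Subtype.ext (hPnd h t t.2 fun w hw => DFunLike.congr_fun ht ⟨w, hw⟩)
  have hGcls : ∀ g x, G (x * g * x⁻¹) = G g := fun g x => by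
    refine (Fintype.sum_bijective (ρ x) ?_ _ _ fun u => ?_).symm
    · exact Function.bijective_iff_has_inverse.mpr ⟨ρ x⁻¹,
        fun u => by simp [← Module.End.mul_apply, ← map_mul],
        fun u => by simp [← Module.End.mul_apply, ← map_mul]⟩
    · simp only [Q, LinearMap.sub_apply, Module.End.one_apply]
      rw [← Module.End.mul_apply (ρ (x * g * x⁻¹)), ← map_mul, inv_mul_cancel_right, map_mul,
        Module.End.mul_apply, ← map_sub, hinv]
  have hθint : ∀ h, IsIntegral ℤ (θ h) := fun h => IsIntegral.sum _ fun r _ =>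
    IsIntegral.of_pow hp.pos (by rw [addChar_pow]; exact isIntegral_one)
  letI : MulAction H U :=
    { smul := fun h u => ρ h u
      one_smul := fun u => by show ρ 1 u = u; simp
      mul_smul := fun a b u => by show ρ (a * b) u = ρ a (ρ b u); simp }
  refine ⟨θ, fun g x => ?_, ?_, ?_, fun M hM h hne => ?_, fun σ h => ?_, 1, one_pos, fun h => ?_⟩
  · refine mul_left_cancel₀ (hπ0 g) ?_
    calc π g * θ (x * g * x⁻¹) = π (x * g * x⁻¹) * θ (x * g * x⁻¹) := by
          simp only [π, card_fix_conj]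
      _ = π g * θ g := by rw [← hG, ← hG, hGcls]
  · refine coef_of_mul (π := π) hp hcop hθint ?_ (m := Module.finrank (ZMod p) U) (fun h => ?_) ?_
    · have e : π = fun h : H => (Nat.card (MulAction.fixedBy U h) : ℂ) := funext fun h => by
        simp only [π]
        exact congrArg Nat.cast (Nat.card_congr (Equiv.subtypeEquivRight fun u => mem_fixSpace))
      rw [e]; exact Char.isCharacter_fixedPoints U
    · obtain ⟨j, hj, e⟩ := exists_card_fix (ρ := ρ) h
      exact ⟨j, hj, by simp only [π, e, Nat.cast_pow]⟩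
    · have e : θ * π = fun h : H => ∑ u : U, (fun a b => ψ (S a (b - a))) u (h • u) := funext fun h => by
        rw [Pi.mul_apply, mul_comm, ← hG]
        rfl
      rw [e]
      refine coef_kernel (H := H) (U := U) (fun a b => ψ (S a (b - a)))
        (fun a b => IsIntegral.of_pow hp.pos (by rw [addChar_pow]; exact isIntegral_one))
        fun g a b => ?_
      show ψ (S (ρ g a) (ρ g b - ρ g a)) = _
      rw [← map_sub, hinv]
  · have hbot : moveSpace ρ 1 = ⊥ := by rw [moveSpace, map_one, sub_self, LinearMap.range_zero]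
    have hz : ∀ r : moveSpace ρ 1, (r : U) = 0 := fun r => by
      have h2 := r.2; simpa [hbot] using h2
    simp only [θ, Q, hz, map_zero, AddChar.map_zero_eq_one, Finset.sum_const, Finset.card_univ,
      nsmul_one, ← Nat.card_eq_fintype_card]
    rw [hbot, Nat.card_unique, Nat.cast_one]
  · obtain ⟨u, hu⟩ := hne
    have hpd : p ∣ Nat.card (moveSpace ρ h) := by
      rw [Module.natCard_eq_pow_finrank (K := ZMod p), Nat.card_zmod]
      refine dvd_pow_self p fun h0 => hu ?_
      have := Submodule.finrank_eq_zero.mp h0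
      have hm : (ρ h - 1) u ∈ moveSpace ρ h := LinearMap.mem_range_self _ _
      rw [this, Submodule.mem_bot] at hm
      exact sub_eq_zero.mp hm
    have e : θ h = ∑ r : moveSpace ρ h, (ψ (Q h r) - 1) + ((Nat.card (moveSpace ρ h) : ℕ) : ℂ) := by
      simp only [θ, Finset.sum_sub_distrib, Finset.sum_const, Finset.card_univ, nsmul_one,
        Nat.card_eq_fintype_card, sub_add_cancel]
    rw [e]
    exact (inM_sum _ fun r _ => inM_sub_one hM (addChar_pow ψ _)).add ((inM_natCast_iff hM _).mpr hpd)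
  · have hne : σ.toRingHom.toMonoidHom.compAddChar ψ ≠ 1 := fun h1 => hψ (DFunLike.ext _ _ fun a =>
      σ.injective (by simpa using DFunLike.congr_fun h1 a))
    have e : σ (θ h) = ∑ r : moveSpace ρ h, σ.toRingHom.toMonoidHom.compAddChar ψ (Q h r) := by
      simp [θ, map_sum]
    rw [e, hnorm _ hne h, ← Nat.cast_mul, mul_comm, card_fix_mul_move hcop]
  · haveI : NeZero (p * Nat.card H) := ⟨(Nat.mul_pos hp.pos Nat.card_pos).ne'⟩
    rw [Nat.cast_one, one_mul]
    exact sum_mem fun r _ => root_mem (by rw [pow_mul, addChar_pow, one_pow])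

end Cfsg.Agent.KGV
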