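/-
Good functions for invariant symplectic forms in odd characteristic (namespace `Cfsg.Agent.KGV`).

The extension to `Heis ⋊ H` of the irreducible character of the Heisenberg group, whose values
`τ h` on `H` satisfy `‖τ h‖ ^ 2 ≤ |C_U(h)|`; then `θ = τ d / |C_U(h)|`, where `d ^ 2 = |U|`.
-/
import Cfsg.Agent.Lib.KGV.Bilinear
import Cfsg.Agent.Lib.CharExtend.Coprime
import Cfsg.Agent.Lib.FullyRamified.Basic
import Cfsg.Agent.Lib.MGroup.Wreath
import Cfsg.Agent.Lib.CharApp.Schur
import Mathlib.GroupTheory.SemidirectProduct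

set_option autoImplicit false
set_option linter.style.haveILetI false

namespace Cfsg.Agent.KGV

open Cfsg Finset
open scoped ComplexConjugate

section Sum

variable {E H : Type*} [Group E] [Fintype E] [Group H] [Finite H] {φ : H →* MulAut E}

/-- Coset sums in a split extension with abelian top. -/
theorem sum_sq_coset (hcomm : ∀ a b : H, a * b = b * a) {χ : SemidirectProduct E H φ → ℂ}
    (hχ : IsCharacter (SemidirectProduct E H φ) χ)
    (hres : IsIrrCharacter E (fun e => χ (SemidirectProduct.inl e))) (h : H) :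
    ∑ e : E, ‖χ (SemidirectProduct.inl e * SemidirectProduct.inr h)‖ ^ 2 = (Nat.card E : ℝ) := by
  classical
  haveI : Finite (SemidirectProduct E H φ) := Finite.of_equiv _ SemidirectProduct.equivProd.symm
  haveI := Fintype.ofFinite (SemidirectProduct E H φ)
  let N : Subgroup (SemidirectProduct E H φ) := (SemidirectProduct.inl (φ := φ)).range
  have hN : N = (SemidirectProduct.rightHom (φ := φ)).ker :=
    SemidirectProduct.range_inl_eq_ker_rightHom
  haveI : N.Normal := by rw [hN]; infer_instance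
  haveI := Fintype.ofFinite N
  let eN : E ≃* N := MonoidHom.ofInjective SemidirectProduct.inl_injective
  letI : DecidablePred (· ∈ N) := fun a => Classical.propDecidable _
  have hmem : ∀ a b : SemidirectProduct E H φ,
      ((a : SemidirectProduct E H φ ⧸ N) = b ↔ a.right = b.right) := fun a b => by
    rw [QuotientGroup.eq, hN, MonoidHom.mem_ker]
    simp [inv_mul_eq_one]
  have hq : ∀ a b : SemidirectProduct E H φ ⧸ N, a * b = b * a := by
    intro a b
    induction a using QuotientGroup.induction_on with | _ a => ?_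
    induction b using QuotientGroup.induction_on with | _ b => ?_
    rw [← QuotientGroup.mk_mul, ← QuotientGroup.mk_mul, hmem]
    exact hcomm _ _
  have hresN : IsIrrCharacter N (fun n : N => χ n) := by
    have h1 := Char.IsIrrCharacter.comp_equiv hres eN.symm
    convert h1 using 1
    funext n
    obtain ⟨e, rfl⟩ := eN.surjective n
    simp only [MulEquiv.symm_apply_apply]
    rfl
  have h1 := FullyRamified.coset_sum_eq_card (Z := N) hq (MGroup.isIrr_of_restrict N hχ hresN) hresN
    ((SemidirectProduct.inr h : SemidirectProduct E H φ) : SemidirectProduct E H φ ⧸ N)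
  rw [show (Nat.card N : ℂ) = (Nat.card E : ℂ) by rw [Nat.card_congr eN.symm.toEquiv]] at h1
  have h2 : ((∑ e : E, ‖χ (SemidirectProduct.inl e * SemidirectProduct.inr h)‖ ^ 2 : ℝ) : ℂ) =
      ((Nat.card E : ℝ) : ℂ) := by
    push_cast
    rw [← h1]
    refine Finset.sum_bij (fun e _ => SemidirectProduct.inl e * SemidirectProduct.inr h)
      (fun e _ => Finset.mem_filter.mpr ⟨Finset.mem_univ _, (hmem _ _).mpr (by simp)⟩)
      (fun a _ b _ e => SemidirectProduct.inl_injective (mul_right_cancel e)) (fun g hg => ?_)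
      (fun e _ => (Complex.mul_conj' _).symm)
    refine ⟨g.left, Finset.mem_univ _, ?_⟩
    have h3 : g.right = h := by simpa using (hmem _ _).mp (Finset.mem_filter.mp hg).2
    rw [← h3, SemidirectProduct.inl_left_mul_inr_right]
  exact_mod_cast h2

end Sum

/-! ### The Heisenberg group of an alternating form -/

section Group

variable {p : ℕ} {U : Type*} [AddCommGroup U] [Module (ZMod p) U]

/-- Pairs, multiplied by means of the form `A`. -/
@[ext] structure Heis (A : LinearMap.BilinForm (ZMod p) U) (hA : ∀ x, A x x = 0) where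
  z : ZMod p
  u : U

variable {A : LinearMap.BilinForm (ZMod p) U} {hA : ∀ x, A x x = 0}

instance : Mul (Heis A hA) := ⟨fun a b => ⟨a.z + b.z + A a.u b.u, a.u + b.u⟩⟩
instance : One (Heis A hA) := ⟨⟨0, 0⟩⟩
instance : Inv (Heis A hA) := ⟨fun a => ⟨-a.z, -a.u⟩⟩

@[simp] theorem Heis.mul_z (a b : Heis A hA) : (a * b).z = a.z + b.z + A a.u b.u := rfl
@[simp] theorem Heis.mul_u (a b : Heis A hA) : (a * b).u = a.u + b.u := rfl
@[simp] theorem Heis.one_z : (1 : Heis A hA).z = 0 := rfl
@[simp] theorem Heis.one_u : (1 : Heis A hA).u = 0 := rfl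
@[simp] theorem Heis.inv_z (a : Heis A hA) : a⁻¹.z = -a.z := rfl
@[simp] theorem Heis.inv_u (a : Heis A hA) : a⁻¹.u = -a.u := rfl

instance : Group (Heis A hA) where
  mul_assoc a b c := by
    ext
    · simp only [Heis.mul_z, Heis.mul_u, map_add, LinearMap.add_apply]; ring
    · simp [add_assoc]
  one_mul a := by ext <;> simp
  mul_one a := by ext <;> simp
  inv_mul_cancel a := by
    ext
    · simp [hA]
    · simp

/-- The underlying pairs. -/
def heisEquiv : Heis A hA ≃ ZMod p × U where
  toFun a := (a.z, a.u)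
  invFun q := ⟨q.1, q.2⟩

theorem heis_antisymm (hA : ∀ x, A x x = 0) (x y : U) : A y x = -A x y := by
  have := hA (x + y)
  simp only [map_add, LinearMap.add_apply, hA, zero_add, add_zero] at this
  linear_combination this

theorem heis_conj (a b : Heis A hA) : b * a * b⁻¹ = ⟨a.z + 2 * A b.u a.u, a.u⟩ := by
  ext
  · simp only [Heis.mul_z, Heis.mul_u, Heis.inv_z, Heis.inv_u, map_neg, map_add, LinearMap.add_apply,
      hA, neg_zero, heis_antisymm hA b.u a.u]
    ring
  · simp

variable {H : Type*} [Group H]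

/-- The action of an isometry group. -/
def heisAut (hA : ∀ x, A x x = 0) (ρ : Representation (ZMod p) H U)
    (hinv : ∀ g x y, A (ρ g x) (ρ g y) = A x y) : H →* MulAut (Heis A hA) where
  toFun g :=
    { toFun := fun a => ⟨a.z, ρ g a.u⟩
      invFun := fun a => ⟨a.z, ρ g⁻¹ a.u⟩
      left_inv := fun a => by ext <;> simp [← Module.End.mul_apply, ← map_mul]
      right_inv := fun a => by ext <;> simp [← Module.End.mul_apply, ← map_mul]
      map_mul' := fun a b => by ext <;> simp [hinv] }
  map_one' := by ext a <;> simp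
  map_mul' g g' := by ext a <;> simp

@[simp] theorem heisAut_apply (ρ : Representation (ZMod p) H U)
    (hinv : ∀ g x y, A (ρ g x) (ρ g y) = A x y) (g : H) (a : Heis A hA) :
    heisAut hA ρ hinv g a = ⟨a.z, ρ g a.u⟩ := rfl

end Group

variable {p : ℕ} [Fact p.Prime] {U : Type*} [AddCommGroup U] [Module (ZMod p) U] [Fintype U]
  {A : LinearMap.BilinForm (ZMod p) U} {hA : ∀ x, A x x = 0}

instance : Finite (Heis A hA) := Finite.of_equiv _ heisEquiv.symm

/-- The character with central character `ψ`. -/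
theorem exists_heis_char [Fintype (Heis A hA)] (hp2 : p ≠ 2)
    (hnd : ∀ x, (∀ y, A x y = 0) → x = 0) {ψ : AddChar (ZMod p) ℂ} (hψ : ψ ≠ 1) :
    ∃ (φ : Heis A hA → ℂ) (d : ℕ), IsIrrCharacter (Heis A hA) φ ∧ d ^ 2 = Nat.card U ∧
      (∀ z, φ ⟨z, 0⟩ = (d : ℂ) * ψ z) ∧ (∀ z u, u ≠ 0 → φ ⟨z, u⟩ = 0) := by
  classical
  haveI := Fintype.ofFinite (IrrCharacter (Heis A hA))
  let f : Heis A hA → ℂ := fun a => if a.u = 0 then ψ a.z else 0
  have hf : IsClassFunction (Heis A hA) f := fun a b => by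
    simp only [f, heis_conj]
    split_ifs with h
    · rw [h, map_zero, mul_zero, add_zero]
    · rfl
  obtain ⟨φ, hφ⟩ : ∃ φ : IrrCharacter (Heis A hA), classInner f (φ : Heis A hA → ℂ) ≠ 0 := by
    by_contra hh
    push Not at hh
    have := congrFun (Char.eq_zero_of_forall_classInner_irr hf hh) ⟨0, 0⟩
    simp [f] at this
  obtain ⟨n, ρ, hirr, hρ⟩ := φ.2
  haveI := hirr
  have hcent : ∀ z, (⟨z, 0⟩ : Heis A hA) ∈ Subgroup.center (Heis A hA) := fun z =>
    Subgroup.mem_center_iff.mpr fun g => by ext <;> simp [add_comm]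
  choose c hc using fun z => CharApp.exists_scalar_of_mem_center ρ (hcent z)
  obtain ⟨d, hd0, hd⟩ := Char.IsIrrCharacter.exists_degree φ.2
  have hmul : ∀ z a, (φ : Heis A hA → ℂ) (⟨z, 0⟩ * a) = c z * (φ : Heis A hA → ℂ) a := fun z a => by
    rw [← hρ]
    simp only [Representation.character, map_mul, hc z, smul_mul_assoc, one_mul, map_smul, smul_eq_mul]
  have hz : ∀ z, (φ : Heis A hA → ℂ) ⟨z, 0⟩ = c z * (d : ℂ) := fun z => by
    rw [← hd, ← hmul, mul_one]
  have hdc : (d : ℂ) ≠ 0 := Nat.cast_ne_zero.mpr hd0.ne'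
  have hc0 : c 0 = 1 := by
    have := hz 0
    rw [show (⟨0, 0⟩ : Heis A hA) = 1 from rfl, hd] at this
    exact mul_right_cancel₀ hdc (by rw [one_mul]; exact this.symm)
  have hcadd : ∀ a b, c (a + b) = c a * c b := fun a b => by
    have h1 := hmul a ⟨b, 0⟩
    rw [show (⟨a, 0⟩ : Heis A hA) * ⟨b, 0⟩ = ⟨a + b, 0⟩ by ext <;> simp, hz, hz, ← mul_assoc] at h1
    exact mul_right_cancel₀ hdc h1
  let cA : AddChar (ZMod p) ℂ := { toFun := c, map_zero_eq_one' := hc0, map_add_eq_mul' := hcadd }
  have hcψ : ∀ z, c z = ψ z := by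
    let ε : AddChar (ZMod p) ℂ := ψ * cA⁻¹
    have hε : ε = 1 := by
      by_contra hne
      refine hφ ?_
      have h1 : classInner f (φ : Heis A hA → ℂ) = (Nat.card (Heis A hA) : ℂ)⁻¹ *
          ((d : ℂ) * ∑ z, ε z) := by
        rw [classInner]
        congr 1
        rw [← Fintype.sum_equiv heisEquiv.symm (fun q => f ⟨q.1, q.2⟩ * conj ((φ : Heis A hA → ℂ) ⟨q.1, q.2⟩))
          _ (fun q => rfl), Fintype.sum_prod_type, Finset.mul_sum]
        refine Finset.sum_congr rfl fun z _ => ?_
        rw [Finset.sum_eq_single (0 : U) (fun u _ hu => by simp [f, hu])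
          (fun h => absurd (Finset.mem_univ _) h)]
        have e : conj (c z) = cA⁻¹ z := by
          rw [AddChar.inv_apply, AddChar.map_neg_eq_conj]; rfl
        simp only [f, if_true, hz, map_mul, Complex.conj_natCast, e, ε, AddChar.mul_apply]
        ring
      rw [h1, AddChar.sum_eq_zero_of_ne_one hne, mul_zero, mul_zero]
    intro z
    have h1 := DFunLike.congr_fun hε z
    rw [AddChar.mul_apply, AddChar.inv_apply, AddChar.one_apply] at h1
    have h2 : cA (-z) * cA z = 1 := by
      rw [← AddChar.map_add_eq_mul, neg_add_cancel, AddChar.map_zero_eq_one]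
    calc c z = ψ z * cA (-z) * cA z := by rw [h1, one_mul]; rfl
      _ = ψ z := by rw [mul_assoc, h2, mul_one]
  have hvan : ∀ z u, u ≠ 0 → (φ : Heis A hA → ℂ) ⟨z, u⟩ = 0 := by
    intro z u hu
    obtain ⟨w, hw⟩ : ∃ w, A w u ≠ 0 := by
      by_contra hh
      push Not at hh
      exact hu (hnd u fun w => by rw [heis_antisymm hA w u, hh, neg_zero])
    have h1 := Char.IsIrrCharacter.isClassFunction φ.2 (⟨z, u⟩ : Heis A hA) ⟨0, w⟩
    rw [heis_conj, show (⟨z + 2 * A w u, u⟩ : Heis A hA) = ⟨2 * A w u, 0⟩ * ⟨z, u⟩ by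
      ext <;> simp [add_comm], hmul, hcψ] at h1
    refine (mul_eq_zero.mp (show (ψ (2 * A w u) - 1) * (φ : Heis A hA → ℂ) ⟨z, u⟩ = 0 by
      rw [sub_mul, h1, one_mul, sub_self])).resolve_left (sub_ne_zero.mpr ?_)
    refine fun h2 => mul_ne_zero ?_ hw ((addChar_eq_one_iff hψ).mp h2)
    intro h3
    have h4 : ((2 : ℕ) : ZMod p) = 0 := by exact_mod_cast h3
    rw [CharP.cast_eq_zero_iff (ZMod p) p] at h4
    exact hp2 ((Nat.prime_dvd_prime_iff_eq Fact.out Nat.prime_two).mp h4)
  refine ⟨φ, d, φ.2, ?_, fun z => by rw [hz, hcψ, mul_comm], hvan⟩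
  have h1 := FullyRamified.sum_self φ.2
  rw [← Fintype.sum_equiv heisEquiv.symm
    (fun q => (φ : Heis A hA → ℂ) ⟨q.1, q.2⟩ * conj ((φ : Heis A hA → ℂ) ⟨q.1, q.2⟩)) _ (fun q => rfl),
    Fintype.sum_prod_type] at h1
  have e : ∀ z : ZMod p, ∑ u : U, (φ : Heis A hA → ℂ) ⟨z, u⟩ * conj ((φ : Heis A hA → ℂ) ⟨z, u⟩) =
      (d : ℂ) ^ 2 := fun z => by
    rw [Finset.sum_eq_single (0 : U) (fun u _ hu => by rw [hvan z u hu, zero_mul])
      (fun h => absurd (Finset.mem_univ _) h), hz, hcψ, map_mul, Complex.conj_natCast,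
      mul_mul_mul_comm, ← AddChar.map_neg_eq_conj, ← AddChar.map_add_eq_mul, add_neg_cancel,
      AddChar.map_zero_eq_one, one_mul, sq]
  simp only [e, Finset.sum_const, Finset.card_univ, ZMod.card, nsmul_eq_mul,
    Nat.card_congr (heisEquiv (A := A) (hA := hA)), Nat.card_prod, Nat.card_zmod, Nat.cast_mul] at h1
  exact_mod_cast mul_left_cancel₀ (Nat.cast_ne_zero.mpr (Fact.out : p.Prime).ne_zero) h1

/-! ### The good function -/

theorem exists_good_alt (hp2 : p ≠ 2) {H : Type*} [Group H] [Fintype H] (hcop : ¬ p ∣ Nat.card H)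
    (ρ : Representation (ZMod p) H U) (hA : ∀ x, A x x = 0)
    (hinv : ∀ g x y, A (ρ g x) (ρ g y) = A x y) (hnd : ∀ x, (∀ y, A x y = 0) → x = 0) :
    ∃ θ : H → ℂ, GoodRep p ρ θ := by
  classical
  have hp : p.Prime := Fact.out
  obtain ⟨ψ, hψ⟩ := exists_addChar (p := p)
  haveI := Fintype.ofFinite (Heis A hA)
  obtain ⟨φ₀, d, hφ₀, hd, hφz, hφv⟩ := exists_heis_char (A := A) (hA := hA) hp2 hnd hψ
  haveI : Finite (SemidirectProduct (Heis A hA) H (heisAut hA ρ hinv)) := Finite.of_equiv _ SemidirectProduct.equivProd.symm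
  haveI := Fintype.ofFinite (SemidirectProduct (Heis A hA) H (heisAut hA ρ hinv))
  let N : Subgroup (SemidirectProduct (Heis A hA) H (heisAut hA ρ hinv)) := (SemidirectProduct.inl (φ := heisAut hA ρ hinv)).range
  haveI hNn : N.Normal := by
    rw [show N = (SemidirectProduct.rightHom (φ := heisAut hA ρ hinv)).ker from
      SemidirectProduct.range_inl_eq_ker_rightHom]
    infer_instance
  haveI := Fintype.ofFinite N
  let eN : (Heis A hA) ≃* N := MonoidHom.ofInjective SemidirectProduct.inl_injective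
  have hcardE : Nat.card (Heis A hA) = p * Nat.card U := by
    rw [Nat.card_congr heisEquiv, Nat.card_prod, Nat.card_zmod]
  have hindex : N.index = Nat.card H := by
    have h1 := N.card_mul_index
    rw [SemidirectProduct.card, Nat.card_congr eN.symm.toEquiv] at h1
    exact Nat.eq_of_mul_eq_mul_left (hcardE ▸ Nat.mul_pos hp.pos Nat.card_pos) h1
  -- `φ₀` is invariant and extends
  obtain ⟨χ, hχ, hext⟩ := CharExtend.extends_of_coprime (N := N) (θ := fun x => φ₀ (eN.symm x))
    (Char.IsIrrCharacter.comp_equiv hφ₀ eN.symm) (fun g x => by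
      obtain ⟨a, rfl⟩ := eN.surjective x
      have e : (⟨g * (eN a : (SemidirectProduct (Heis A hA) H (heisAut hA ρ hinv))) * g⁻¹, hNn.conj_mem _ (eN a).2 g⟩ : N) =
          eN (g.left * heisAut hA ρ hinv g.right a * g.left⁻¹) := by
        refine Subtype.ext ?_
        show g * SemidirectProduct.inl a * g⁻¹ = SemidirectProduct.inl _
        conv_lhs => rw [← SemidirectProduct.inl_left_mul_inr_right g]
        rw [map_mul, map_mul, map_inv, SemidirectProduct.inl_aut, map_inv]
        group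
      show φ₀ (eN.symm _) = φ₀ (eN.symm _)
      rw [e, MulEquiv.symm_apply_apply, MulEquiv.symm_apply_apply,
        Char.IsIrrCharacter.isClassFunction hφ₀, heisAut_apply]
      obtain ⟨z, u⟩ := a
      by_cases hu : u = 0
      · simp [hu]
      · rw [hφv z u hu, hφv z _ fun h => hu ?_]
        have h2 := congrArg (ρ g.right⁻¹) h
        simpa [← Module.End.mul_apply, ← map_mul] using h2)
    (by
      rw [hindex, Nat.card_congr eN.symm.toEquiv, hcardE, Module.natCard_eq_pow_finrank (K := ZMod p),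
        Nat.card_zmod, ← pow_succ']
      exact (hp.coprime_iff_not_dvd.mpr hcop).pow_left _)
  have hχE : ∀ a : (Heis A hA), χ (SemidirectProduct.inl a) = φ₀ a := fun a => by
    have := hext (eN a)
    rwa [MulEquiv.symm_apply_apply] at this
  obtain ⟨n, R, hR, hRχ⟩ := hχ
  haveI := hR
  have hχc : IsCharacter (SemidirectProduct (Heis A hA) H (heisAut hA ρ hinv)) χ := ⟨n, R, hRχ⟩
  let τ : H → ℂ := fun h => χ (SemidirectProduct.inr h)
  have hd0 : (d : ℂ) ≠ 0 := by
    refine Nat.cast_ne_zero.mpr fun h0 => ?_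
    rw [h0, zero_pow two_ne_zero] at hd
    exact Nat.card_pos.ne hd
  have hcent : ∀ z, (SemidirectProduct.inl (⟨z, 0⟩ : (Heis A hA)) : (SemidirectProduct (Heis A hA) H (heisAut hA ρ hinv))) ∈ Subgroup.center (SemidirectProduct (Heis A hA) H (heisAut hA ρ hinv)) := fun z =>
    Subgroup.mem_center_iff.mpr fun g => by ext <;> simp [add_comm]
  choose cz hcz using fun z => CharApp.exists_scalar_of_mem_center R (hcent z)
  have hmul : ∀ z g, χ (SemidirectProduct.inl (⟨z, 0⟩ : (Heis A hA)) * g) = ψ z * χ g := by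
    intro z g
    have h1 : ∀ g, χ (SemidirectProduct.inl (⟨z, 0⟩ : (Heis A hA)) * g) = cz z * χ g := fun g => by
      rw [← hRχ]
      simp only [Representation.character, map_mul, hcz z, smul_mul_assoc, one_mul, map_smul,
        smul_eq_mul]
    have h2 := h1 (SemidirectProduct.inl 1)
    rw [← map_mul, mul_one, hχE, hχE, hφz, show (1 : (Heis A hA)) = ⟨0, 0⟩ from rfl, hφz,
      AddChar.map_zero_eq_one, mul_one, mul_comm] at h2
    rw [h1, ← mul_right_cancel₀ hd0 h2]
  have hshift : ∀ (h : H) (w : U),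
      (SemidirectProduct.inl (⟨0, w⟩ : (Heis A hA)) : (SemidirectProduct (Heis A hA) H (heisAut hA ρ hinv))) * SemidirectProduct.inr h *
        (SemidirectProduct.inl (⟨0, w⟩ : (Heis A hA)))⁻¹ =
      SemidirectProduct.inl (⟨-A w (ρ h w), w - ρ h w⟩ : (Heis A hA)) * SemidirectProduct.inr h := by
    intro h w
    ext <;> simp [sub_eq_add_neg]
  have hvanish : ∀ (h : H) (l : U), l ∈ fixSpace ρ h → l ≠ 0 →
      χ (SemidirectProduct.inl (⟨0, l⟩ : (Heis A hA)) * SemidirectProduct.inr h) = 0 := by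
    intro h l hl hl0
    obtain ⟨c, hc, hcl⟩ : ∃ c ∈ fixSpace ρ h, A c l ≠ 0 := by
      by_contra hh
      push Not at hh
      refine hl0 (hnd l fun y => ?_)
      obtain ⟨a, ha, b, ⟨w, rfl⟩, rfl⟩ := Submodule.mem_sup.mp
        ((isCompl_fix_move (ρ := ρ) hcop h).sup_eq_top.symm ▸ Submodule.mem_top (x := y) :
          y ∈ fixSpace ρ h ⊔ moveSpace ρ h)
      rw [map_add, heis_antisymm hA a l, hh a ha, neg_zero, zero_add, LinearMap.sub_apply,
        Module.End.one_apply, map_sub, sub_eq_zero]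
      conv_lhs => rw [← mem_fixSpace.mp hl]
      exact hinv h l w
    have h1 := Char.IsIrrCharacter.isClassFunction (χ := χ) ⟨n, R, hR, hRχ⟩
      (SemidirectProduct.inl (⟨0, l⟩ : (Heis A hA)) * SemidirectProduct.inr h)
      (SemidirectProduct.inl (⟨0, c⟩ : (Heis A hA)))
    have e : (SemidirectProduct.inl (⟨0, c⟩ : (Heis A hA)) : (SemidirectProduct (Heis A hA) H (heisAut hA ρ hinv))) *
        (SemidirectProduct.inl (⟨0, l⟩ : (Heis A hA)) * SemidirectProduct.inr h) *
        (SemidirectProduct.inl (⟨0, c⟩ : (Heis A hA)))⁻¹ =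
        SemidirectProduct.inl (⟨2 * A c l, 0⟩ : (Heis A hA)) *
          (SemidirectProduct.inl (⟨0, l⟩ : (Heis A hA)) * SemidirectProduct.inr h) := by
      ext
      · simp [mem_fixSpace.mp hc, hA, heis_antisymm hA c l]; ring
      · simp [mem_fixSpace.mp hc]
      · simp
    rw [e, hmul] at h1
    refine (mul_eq_zero.mp (show (ψ (2 * A c l) - 1) *
      χ (SemidirectProduct.inl (⟨0, l⟩ : (Heis A hA)) * SemidirectProduct.inr h) = 0 by
        rw [sub_mul, h1, one_mul, sub_self])).resolve_left (sub_ne_zero.mpr ?_)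
    refine fun h2 => mul_ne_zero ?_ hcl ((addChar_eq_one_iff hψ).mp h2)
    intro h3
    have h4 : ((2 : ℕ) : ZMod p) = 0 := by exact_mod_cast h3
    rw [CharP.cast_eq_zero_iff (ZMod p) p] at h4
    exact hp2 ((Nat.prime_dvd_prime_iff_eq hp Nat.prime_two).mp h4)
  -- the norm bound
  have hnorm : ∀ (σ : ℂ ≃+* ℂ) (h : H), ‖σ (τ h)‖ ^ 2 ≤ (Nat.card (fixSpace ρ h) : ℝ) := by
    intro σ h
    let K := Subgroup.zpowers h
    let φK : K →* MulAut (Heis A hA) := (heisAut hA ρ hinv).comp K.subtype
    let μ : SemidirectProduct (Heis A hA) K φK →* (SemidirectProduct (Heis A hA) H (heisAut hA ρ hinv)) :=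
      SemidirectProduct.map (MonoidHom.id (Heis A hA)) K.subtype (fun g => rfl)
    let χ' : SemidirectProduct (Heis A hA) K φK → ℂ := fun x => σ.toRingHom (χ (μ x))
    have hsum := sum_sq_coset (φ := φK) (χ := χ') (fun a b => by
      obtain ⟨i, hi⟩ := a.2; obtain ⟨j, hj⟩ := b.2
      exact Subtype.ext (by
        rw [Subgroup.coe_mul, Subgroup.coe_mul, ← hi, ← hj]; exact zpow_mul_comm h i j))
      (GaloisPow.isCharacter_twist σ.toRingHom (Char.IsCharacter.comp_hom hχc μ))
      (by
        have h1 := GaloisPow.isIrrCharacter_twist σ.toRingHom hφ₀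
        convert h1 using 2 with a
        show σ.toRingHom (χ (μ (SemidirectProduct.inl a))) = _
        rw [SemidirectProduct.map_inl, MonoidHom.id_apply, hχE])
      ⟨h, Subgroup.mem_zpowers h⟩
    haveI := Fintype.ofFinite (moveSpace ρ h)
    choose w hw using fun r : moveSpace ρ h => r.2
    let g : ZMod p × moveSpace ρ h → (Heis A hA) := fun q =>
      ⟨q.1, 0⟩ * ⟨-A (-w q.2) (ρ h (-w q.2)), -w q.2 - ρ h (-w q.2)⟩
    have hgu : ∀ q, (g q).u = (q.2 : U) := fun q => by
      simp only [g, Heis.mul_u, zero_add, map_neg, ← hw q.2, LinearMap.sub_apply, Module.End.one_apply]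
      abel
    have hginj : Function.Injective g := fun q q' e => by
      have h1 : q.2 = q'.2 := Subtype.ext (by rw [← hgu, ← hgu, e])
      refine Prod.ext ?_ h1
      have h2 := congrArg Heis.z e
      simp only [g, Heis.mul_z, h1, map_zero, LinearMap.zero_apply, add_zero] at h2
      exact add_right_cancel h2
    have hval : ∀ q, ‖χ' (SemidirectProduct.inl (g q) *
        SemidirectProduct.inr ⟨h, Subgroup.mem_zpowers h⟩)‖ = ‖σ (τ h)‖ := by
      intro q
      show ‖σ.toRingHom (χ (μ _))‖ = _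
      rw [map_mul, SemidirectProduct.map_inl, SemidirectProduct.map_inr, MonoidHom.id_apply]
      simp only [g, map_mul, mul_assoc, Subgroup.coe_subtype]
      rw [hmul, ← hshift, Char.IsIrrCharacter.isClassFunction (χ := χ) ⟨n, R, hR, hRχ⟩,
        RingEquiv.toRingHom_eq_coe, RingHom.coe_coe, map_mul, norm_mul]
      rw [Complex.norm_eq_one_of_pow_eq_one (by rw [← map_pow, addChar_pow, map_one]) hp.ne_zero,
        one_mul]
    have h1 : (p : ℝ) * Nat.card (moveSpace ρ h) * ‖σ (τ h)‖ ^ 2 ≤ (Nat.card (Heis A hA) : ℝ) := by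
      rw [← hsum]
      calc (p : ℝ) * Nat.card (moveSpace ρ h) * ‖σ (τ h)‖ ^ 2
          = ∑ q : ZMod p × moveSpace ρ h, ‖σ (τ h)‖ ^ 2 := by
            simp [Fintype.card_prod, Nat.card_eq_fintype_card]
        _ = ∑ e ∈ Finset.univ.image g, ‖χ' (SemidirectProduct.inl e *
              SemidirectProduct.inr ⟨h, Subgroup.mem_zpowers h⟩)‖ ^ 2 := by
            rw [Finset.sum_image fun a _ b _ e => hginj e]
            exact Finset.sum_congr rfl fun q _ => by rw [hval]
        _ ≤ _ := Finset.sum_le_sum_of_subset_of_nonneg (Finset.subset_univ _) fun _ _ _ => sq_nonneg _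
    rw [hcardE, ← card_fix_mul_move (ρ := ρ) hcop h] at h1
    push_cast at h1
    have hpm : (0 : ℝ) < (p : ℝ) * Nat.card (moveSpace ρ h) :=
      mul_pos (by exact_mod_cast hp.pos) (by exact_mod_cast Nat.card_pos)
    refine le_of_mul_le_mul_left ?_ hpm
    linarith
  -- a totally isotropic subspace of half the dimension splits off an integral factor
  have hsplit : ∀ h : H, ∃ a b : ℂ, τ h * d / (Nat.card (fixSpace ρ h) : ℂ) = a * b ∧
      IsIntegral ℤ a ∧ IsIntegral ℤ b ∧
      ((∃ u, ρ h u ≠ u) → ∀ M : Ideal AlgInt, IsPModular p M → InM M b) := by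
    intro h
    haveI := Fintype.ofFinite (fixSpace ρ h)
    obtain ⟨L, ⟨hLC, hLiso⟩, hmax⟩ := (Set.toFinite {L : Submodule (ZMod p) U |
      L ≤ fixSpace ρ h ∧ ∀ x ∈ L, ∀ y ∈ L, A x y = 0}).exists_maximal
        ⟨⊥, bot_le, fun x hx y _ => by rw [(Submodule.mem_bot _).mp hx, map_zero, LinearMap.zero_apply]⟩
    haveI := Fintype.ofFinite L
    have hbig : Nat.card (fixSpace ρ h) ≤ Nat.card L * Nat.card L := by
      let F : fixSpace ρ h →ₗ[ZMod p] Module.Dual (ZMod p) L :=
        (A.domRestrict (fixSpace ρ h)).compl₂ L.subtype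
      have hker : Nat.card (LinearMap.ker F) ≤ Nat.card L := by
        refine Nat.card_le_card_of_injective (fun c => (⟨((c : fixSpace ρ h) : U), ?_⟩ : L))
          (fun a b e => Subtype.ext (Subtype.ext (congrArg (fun x : L => (x : U)) e)))
        obtain ⟨⟨c, hcC⟩, hc⟩ := c
        have hcL : ∀ y ∈ L, A c y = 0 := fun y hy =>
          DFunLike.congr_fun (LinearMap.mem_ker.mp hc) ⟨y, hy⟩
        refine hmax (y := L ⊔ Submodule.span (ZMod p) {c}) ⟨sup_le hLC
          ((Submodule.span_singleton_le_iff_mem _ _).mpr hcC), fun x hx y hy => ?_⟩ le_sup_left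
          (Submodule.mem_sup_right (Submodule.mem_span_singleton_self c))
        obtain ⟨x₁, hx₁, x₂, hx₂, rfl⟩ := Submodule.mem_sup.mp hx
        obtain ⟨y₁, hy₁, y₂, hy₂, rfl⟩ := Submodule.mem_sup.mp hy
        obtain ⟨s, rfl⟩ := Submodule.mem_span_singleton.mp hx₂
        obtain ⟨t, rfl⟩ := Submodule.mem_span_singleton.mp hy₂
        simp only [map_add, map_smul, LinearMap.add_apply, LinearMap.smul_apply, smul_eq_mul,
          hLiso x₁ hx₁ y₁ hy₁, hcL y₁ hy₁, heis_antisymm hA c x₁, hcL x₁ hx₁, hA]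
        ring
      have h1 := Submodule.card_eq_card_quotient_mul_card (LinearMap.ker F)
      rw [h1]
      haveI : Finite (Module.Dual (ZMod p) L) := Module.finite_of_finite (ZMod p)
      refine Nat.mul_le_mul hker ((Nat.card_congr F.quotKerEquivRange.toEquiv).trans_le ?_)
      calc Nat.card (LinearMap.range F) ≤ Nat.card (Module.Dual (ZMod p) L) :=
            Nat.card_le_card_of_injective _ Subtype.val_injective
        _ = Nat.card L := by
            rw [Module.natCard_eq_pow_finrank (K := ZMod p), Subspace.dual_finrank_eq,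
              ← Module.natCard_eq_pow_finrank (K := ZMod p)]
    have hpp : ∀ S : Submodule (ZMod p) U, ∃ i, Nat.card S = p ^ i := fun S =>
      ⟨_, by rw [Module.natCard_eq_pow_finrank (K := ZMod p), Nat.card_zmod]⟩
    obtain ⟨i, hi⟩ := hpp L
    obtain ⟨j, hj⟩ := hpp (fixSpace ρ h)
    obtain ⟨k, hk⟩ := hpp (moveSpace ρ h)
    have hji : j ≤ i + i := by
      rw [hi, hj, ← pow_add] at hbig
      exact (Nat.pow_le_pow_iff_right hp.one_lt).mp hbig
    obtain ⟨s, hs⟩ := Nat.exists_eq_add_of_le hji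
    let b : ℂ := (d : ℂ) * (p : ℂ) ^ i / (p : ℂ) ^ j
    have hp0 : (p : ℂ) ≠ 0 := Nat.cast_ne_zero.mpr hp.ne_zero
    have hb2 : b * b = ((p ^ (k + s) : ℕ) : ℂ) := by
      have h1 : (d : ℂ) * d = (p : ℂ) ^ (j + k) := by
        have := congrArg (Nat.cast (R := ℂ)) hd
        rw [← card_fix_mul_move (ρ := ρ) hcop h, hj, hk, ← pow_add, sq] at this
        exact_mod_cast this
      simp only [b]
      rw [div_mul_div_comm, div_eq_iff (mul_ne_zero (pow_ne_zero _ hp0) (pow_ne_zero _ hp0)),
        mul_mul_mul_comm, h1, ← pow_add, ← pow_add, hs]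
      push_cast
      ring
    have hbint : IsIntegral ℤ b := IsIntegral.of_pow (two_pos) (by
      rw [sq, hb2]; simpa using (isIntegral_algebraMap (R := ℤ) (A := ℂ) (x := ((p ^ (k + s) : ℕ) : ℤ))))
    let T : Module.End ℂ (Fin n → ℂ) := R (SemidirectProduct.inr h)
    let S : Module.End ℂ (Fin n → ℂ) := ∑ l : L, R (SemidirectProduct.inl (⟨0, (l : U)⟩ : (Heis A hA)))
    let e : Module.End ℂ (Fin n → ℂ) := (Nat.card L : ℂ)⁻¹ • S
    have hlmul : ∀ a b : L, R (SemidirectProduct.inl (⟨0, (a : U)⟩ : (Heis A hA))) *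
        R (SemidirectProduct.inl (⟨0, (b : U)⟩ : (Heis A hA))) =
        R (SemidirectProduct.inl (⟨0, ((a + b : L) : U)⟩ : (Heis A hA))) := fun a b => by
      rw [← map_mul, ← map_mul]
      congr 2
      ext <;> simp [hLiso _ a.2 _ b.2]
    have hTe : Commute T e := by
      refine (Commute.sum_right _ _ _ fun l _ => ?_).smul_right _
      show R _ * R _ = R _ * R _
      rw [← map_mul, ← map_mul]
      congr 1
      ext <;> simp [mem_fixSpace.mp (hLC l.2)]
    have hee : e * e = e := by
      have h1 : S * S = (Nat.card L : ℂ) • S := by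
        simp only [S, Finset.sum_mul, Finset.mul_sum, hlmul]
        rw [Finset.sum_comm, Finset.sum_congr rfl fun a _ => Fintype.sum_equiv (Equiv.addLeft a)
          (fun b : L => R (SemidirectProduct.inl (⟨0, ((a + b : L) : U)⟩ : (Heis A hA))))
          (fun b : L => R (SemidirectProduct.inl (⟨0, (b : U)⟩ : (Heis A hA)))) (fun b => rfl),
          Finset.sum_const, Finset.card_univ, ← Nat.card_eq_fintype_card, Nat.cast_smul_eq_nsmul]
      simp only [e]
      rw [smul_mul_smul_comm, h1, smul_smul, mul_assoc,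
        inv_mul_cancel₀ (Nat.cast_ne_zero.mpr Nat.card_pos.ne'), mul_one]
    have hTint : IsIntegral ℤ T := IsIntegral.of_pow (Nat.card_pos (α := H)) (by
      simp only [T]; rw [← map_pow, ← map_pow, pow_card_eq_one', map_one, map_one]
      exact isIntegral_one)
    let B := Pi.basisFun ℂ (Fin n)
    have htr : IsIntegral ℤ (LinearMap.trace ℂ _ (T * e)) := by
      rw [LinearMap.trace_eq_matrix_trace ℂ B]
      refine isIntegral_trace ?_
      have h9 := isIntegral_mul_idem hTint hTe hee
      exact IsIntegral.map ((LinearMap.toMatrixAlgEquiv B).toAlgHom.restrictScalars ℤ)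
        h9
    have htr' : LinearMap.trace ℂ _ (T * e) = τ h / (Nat.card L : ℂ) := by
      simp only [e, S, mul_smul_comm, Finset.mul_sum, map_smul, map_sum, smul_eq_mul]
      rw [Finset.sum_eq_single (0 : L) (fun l _ hl => ?_) (fun h => absurd (Finset.mem_univ _) h),
        div_eq_inv_mul]
      · congr 1
        rw [Submodule.coe_zero, show (⟨0, (0 : U)⟩ : (Heis A hA)) = 1 from rfl, map_one, map_one, mul_one]
        simp only [T, τ, ← hRχ]
        rfl
      · rw [show T = R (SemidirectProduct.inr h) from rfl, LinearMap.trace_mul_comm, ← map_mul]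
        have := hvanish h l (hLC l.2) fun h0 => hl (Subtype.ext h0)
        rw [← hRχ] at this
        exact mul_eq_zero_of_right _ this
    refine ⟨τ h / (Nat.card L : ℂ), b, ?_, htr' ▸ htr, hbint, fun ⟨u, hu⟩ M hM => ?_⟩
    · simp only [b, hi, hj, Nat.cast_pow]
      field_simp
    · refine inM_of_sq hM hbint ?_
      rw [hb2]
      refine (inM_natCast_iff hM _).mpr (dvd_pow_self p fun h0 => hu ?_)
      have hk0 : k = 0 := by omega
      rw [hk0, pow_zero] at hk
      haveI : Subsingleton (moveSpace ρ h) := (Nat.card_eq_one_iff_unique.mp hk).1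
      exact sub_eq_zero.mp (congrArg Subtype.val (Subsingleton.elim
        (⟨(ρ h - 1) u, ⟨u, rfl⟩⟩ : moveSpace ρ h) 0))
  choose a b hab ha hb hbM using hsplit
  let π : H → ℂ := fun h => (Nat.card (fixSpace ρ h) : ℂ)
  have hπ0 : ∀ h, π h ≠ 0 := fun h => Nat.cast_ne_zero.mpr Nat.card_pos.ne'
  let θ : H → ℂ := fun h => τ h * d / π h
  have hτcls : ∀ g x, τ (x * g * x⁻¹) = τ g := fun g x => by
    simp only [τ, map_mul, map_inv]
    exact Char.IsIrrCharacter.isClassFunction (χ := χ) ⟨n, R, hR, hRχ⟩ _ _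
  letI : MulAction H U :=
    { smul := fun h u => ρ h u
      one_smul := fun u => by show ρ 1 u = u; simp
      mul_smul := fun a b u => by show ρ (a * b) u = ρ a (ρ b u); simp }
  refine ⟨θ, fun g x => ?_, ?_, ?_, fun M hM h hne => ?_, fun σ h => ?_, Nat.card U, Nat.card_pos,
    fun h => ?_⟩
  · simp only [θ, π, hτcls, card_fix_conj]
  · refine coef_of_mul (π := π) hp hcop (fun h => by rw [show θ h = a h * b h from hab h]; exact (ha h).mul (hb h)) ?_
      (m := Module.finrank (ZMod p) U) (fun h => ?_) ?_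
    · have e : π = fun h : H => (Nat.card (MulAction.fixedBy U h) : ℂ) := funext fun h => by
        simp only [π]
        exact congrArg Nat.cast (Nat.card_congr (Equiv.subtypeEquivRight fun u => mem_fixSpace))
      rw [e]; exact Char.isCharacter_fixedPoints U
    · obtain ⟨j, hj, e⟩ := exists_card_fix (ρ := ρ) h
      exact ⟨j, hj, by simp only [π, e, Nat.cast_pow]⟩
    · have e : θ * π = (d : ℂ) • τ := funext fun h => by
        simp only [θ, Pi.mul_apply, Pi.smul_apply, smul_eq_mul]
        rw [div_mul_cancel₀ _ (hπ0 h), mul_comm]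
      rw [e]
      refine Coef.smul ?_ (coef_character (Char.IsCharacter.comp_hom hχc SemidirectProduct.inr))
      simpa using (isIntegral_algebraMap (R := ℤ) (A := ℂ) (x := (d : ℤ)))
  · have h1 : π 1 = (Nat.card U : ℂ) := by
      simp only [π, fixSpace, map_one, sub_self, LinearMap.ker_zero]
      rw [Nat.card_congr (Submodule.topEquiv (R := ZMod p) (M := U)).toEquiv]
    have h2 : τ 1 = (d : ℂ) := by
      simp only [τ, map_one]
      rw [← map_one (SemidirectProduct.inl (φ := heisAut hA ρ hinv)), hχE,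
        show (1 : (Heis A hA)) = ⟨0, 0⟩ from rfl, hφz, AddChar.map_zero_eq_one, mul_one]
    simp only [θ, h1, h2, ← hd, Nat.cast_pow, ← sq]
    exact div_self (pow_ne_zero 2 hd0)
  · rw [show θ h = a h * b h from hab h]
    exact InM.mul_left (ha h) (hbM h hne M hM)
  · show ‖σ (τ h * d / π h)‖ ^ 2 * (Nat.card (fixSpace ρ h) : ℝ) ≤ _
    simp only [π, map_div₀, map_mul, map_natCast, norm_div, norm_mul, Complex.norm_natCast, div_pow,
      mul_pow, ← Nat.cast_pow d, hd]
    have hC : (0 : ℝ) < Nat.card (fixSpace ρ h) := by exact_mod_cast Nat.card_pos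
    rw [div_mul_eq_mul_div, div_le_iff₀ (pow_pos hC 2)]
    have h1 := mul_le_mul_of_nonneg_right (hnorm σ h)
      (show (0 : ℝ) ≤ (Nat.card U : ℝ) * Nat.card (fixSpace ρ h) by positivity)
    calc _ = ‖σ (τ h)‖ ^ 2 * ((Nat.card U : ℝ) * Nat.card (fixSpace ρ h)) := by ring
      _ ≤ _ := h1
      _ = _ := by ring
  · haveI : NeZero (p * Nat.card H) := ⟨(Nat.mul_pos hp.pos Nat.card_pos).ne'⟩
    have e : (Nat.card U : ℂ) * θ h = ((d * Nat.card (moveSpace ρ h) : ℕ) : ℂ) * τ h := by
      simp only [θ, π, ← card_fix_mul_move (ρ := ρ) hcop h, Nat.cast_mul]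
      field_simp
      rw [mul_div_cancel_left₀ _ (Nat.cast_ne_zero.mpr Nat.card_pos.ne' : (Nat.card (fixSpace ρ h) : ℂ) ≠ 0)]
    rw [e]
    refine mul_mem (natCast_mem _ _) (character_mem hχc ?_)
    rw [← map_pow, mul_comm, pow_mul, pow_card_eq_one', one_pow, map_one]

end Cfsg.Agent.KGV
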