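/-
Good functions on self-dual invariant subgroups (namespace `Cfsg.Agent.KGV`).

`exists_good_selfdual` : a subgroup of exponent `p` with an invariant nondegenerate pairing carries
a good function.
-/
import Cfsg.Agent.Lib.KGV.Heisenberg
import Cfsg.Agent.Lib.SelfDualSplit.Basic

set_option autoImplicit false
set_option linter.style.haveILetI false

namespace Cfsg.Agent.KGV

open Cfsg

variable {X : Type*} [Group X] [Finite X] {p : ℕ} [Fact p.Prime] {H : Subgroup X}

/-- The restriction to an invariant submodule. -/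
def subRep {U : Type*} [AddCommGroup U] [Module (ZMod p) U] {G : Type*} [Group G]
    (ρ : Representation (ZMod p) G U) (L : Submodule (ZMod p) U)
    (hL : ∀ g, ∀ u ∈ L, ρ g u ∈ L) : Representation (ZMod p) G L where
  toFun g := (ρ g).restrict (hL g)
  map_one' := LinearMap.ext fun u => Subtype.ext (by simp)
  map_mul' a b := LinearMap.ext fun u => Subtype.ext (by simp)

theorem subRep_coe {U : Type*} [AddCommGroup U] [Module (ZMod p) U] {G : Type*} [Group G]
    (ρ : Representation (ZMod p) G U) (L : Submodule (ZMod p) U)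
    (hL : ∀ g, ∀ u ∈ L, ρ g u ∈ L) (g : G) (u : L) : (subRep ρ L hL g u : U) = ρ g u := rfl

theorem exists_good_selfdual [Fintype H] (U : Subgroup X) (hexp : ∀ u ∈ U, u ^ p = 1)
    (hUab : ∀ a ∈ U, ∀ b ∈ U, Commute a b) (hcop : ¬ p ∣ Nat.card H)
    (hinv : ∀ h ∈ H, ∀ u ∈ U, h * u * h⁻¹ ∈ U) (β : X → X → ZMod p)
    (hβl : ∀ u ∈ U, ∀ u' ∈ U, ∀ w ∈ U, β (u * u') w = β u w + β u' w)
    (hβr : ∀ u ∈ U, ∀ w ∈ U, ∀ w' ∈ U, β u (w * w') = β u w + β u w')
    (hβinv : ∀ h ∈ H, ∀ u ∈ U, ∀ w ∈ U, β (h * u * h⁻¹) (h * w * h⁻¹) = β u w)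
    (hβnd : ∀ u ∈ U, (∀ w ∈ U, β u w = 0) → u = 1) : ∃ θ : H → ℂ, Good p H U θ := by
  classical
  letI : CommGroup U :=
    { (inferInstance : Group U) with mul_comm := fun a b => Subtype.ext (hUab a a.2 b b.2) }
  have hexp' : ∀ x : Additive U, p • x = 0 := fun x => by
    have h : x.toMul ^ p = 1 := Subtype.ext (by simpa using hexp _ x.toMul.2)
    exact congrArg Additive.ofMul h
  obtain ⟨_⟩ : Nonempty (Module (ZMod p) (Additive U)) := ⟨AddCommGroup.zmodModule hexp'⟩
  haveI := Fintype.ofFinite (Additive U)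
  let T : H → Additive U →+ Additive U := fun h =>
    MonoidHom.toAdditive
      ({ toFun := fun a => ⟨(h : X) * a * (h : X)⁻¹, hinv h h.2 a a.2⟩
         map_one' := Subtype.ext (by simp)
         map_mul' := fun a b => Subtype.ext (by simp [mul_assoc]) } : U →* U)
  let Tl : H → (Additive U →ₗ[ZMod p] Additive U) := fun h => (T h).toZModLinearMap p
  have hTl : ∀ (h : H) (a : Additive U), ((Tl h a).toMul : X) = (h : X) * (a.toMul : X) * (h : X)⁻¹ :=
    fun h a => rfl
  have hext : ∀ a b : Additive U, (a.toMul : X) = b.toMul → a = b := fun a b e =>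
    congrArg Additive.ofMul (Subtype.ext e : a.toMul = b.toMul)
  have hT1 : Tl 1 = 1 := LinearMap.ext fun a => hext _ _ (by
    rw [hTl, Module.End.one_apply, Subgroup.coe_one]; simp)
  have hTm : ∀ g h, Tl (g * h) = Tl g * Tl h := fun g h => LinearMap.ext fun a => hext _ _ (by
    rw [hTl, Module.End.mul_apply, hTl, hTl, Subgroup.coe_mul]; simp [mul_assoc])
  let ρ : Representation (ZMod p) H (Additive U) :=
    ({ toFun := Tl, map_one' := hT1, map_mul' := hTm } : H →* Module.End (ZMod p) (Additive U))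
  have hρ : ∀ (h : H) (a : Additive U), ((ρ h a).toMul : X) = (h : X) * (a.toMul : X) * (h : X)⁻¹ := fun h a => rfl
  let L1 : Additive U → Additive U →+ ZMod p := fun b =>
    AddMonoidHom.mk' (fun a => β (a.toMul : X) (b.toMul : X))
      fun a a' => hβl _ a.toMul.2 _ a'.toMul.2 _ b.toMul.2
  let L2 : Additive U → Additive U →+ ZMod p := fun a =>
    AddMonoidHom.mk' (fun b => β (a.toMul : X) (b.toMul : X))
      fun b b' => hβr _ a.toMul.2 _ b.toMul.2 _ b'.toMul.2
  let B : LinearMap.BilinForm (ZMod p) (Additive U) :=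
    LinearMap.mk₂ (ZMod p) (fun a b => β (a.toMul : X) (b.toMul : X))
      (fun a a' b => (L1 b).map_add a a') (fun s a b => ((L1 b).toZModLinearMap p).map_smul s a)
      (fun a b b' => (L2 a).map_add b b') (fun s a b => ((L2 a).toZModLinearMap p).map_smul s b)
  have hB : ∀ h a b, B.flip (ρ h a) (ρ h b) = B.flip a b := fun h a b =>
    hβinv h h.2 _ b.toMul.2 _ a.toMul.2
  have hG : (Nat.card H : ZMod p) ≠ 0 := fun h => hcop ((CharP.cast_eq_zero_iff (ZMod p) p _).1 h)
  obtain ⟨U₁, W₁, hsup, hdisj, hU₁, hW₁, ⟨A, hAalt, hAinv, hAnd⟩, ⟨S, hSsym, hSinv, hSnd⟩, -⟩ :=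
    SelfDualSplit.dec_of_nd (ρ := ρ) (B := B.flip) hB hG _ ⊤ rfl
      (fun _ _ _ => Submodule.mem_top) fun z _ h => by
        have h1 := hβnd _ z.toMul.2 fun w hw =>
          h (Additive.ofMul ⟨w, hw⟩) Submodule.mem_top
        exact congrArg Additive.ofMul (Subtype.ext h1 : z.toMul = 1)
  let img : Submodule (ZMod p) (Additive U) → Subgroup X := fun L =>
    (AddSubgroup.toSubgroup' L.toAddSubgroup).map U.subtype
  let f : ∀ L : Submodule (ZMod p) (Additive U), L → X := fun L u => ((u : Additive U).toMul : X)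
  have himg : ∀ L x, x ∈ img L ↔ ∃ u, f L u = x := fun L x =>
    ⟨fun ⟨a, ha, e⟩ => ⟨⟨Additive.ofMul a, ha⟩, e⟩, fun ⟨⟨a, ha⟩, e⟩ => ⟨a.toMul, ha, e⟩⟩
  have hfinj : ∀ L, Function.Injective (f L) := fun L a b e =>
    Subtype.ext (congrArg Additive.ofMul (Subtype.ext e : (a : Additive U).toMul = (b : Additive U).toMul))
  haveI := Fintype.ofFinite U₁
  haveI := Fintype.ofFinite W₁
  have hS' : ∀ x : W₁, (∀ y, S.restrict W₁ x y = 0) → x = 0 := fun x hx =>
    Subtype.ext (hSnd x x.2 fun y hy => hx ⟨y, hy⟩)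
  have hA' : ∀ x : U₁, (∀ y, A.restrict U₁ x y = 0) → x = 0 := fun x hx =>
    Subtype.ext (hAnd x x.2 fun y hy => hx ⟨y, hy⟩)
  obtain ⟨θW, hθW⟩ := exists_good_symm hcop (subRep ρ W₁ hW₁) (S.restrict W₁)
    (fun x y => hSsym x y) (fun g x y => hSinv g x x.2 y y.2) hS'
  obtain ⟨θU, hθU⟩ : ∃ θ, GoodRep p (subRep ρ U₁ hU₁) θ := by
    by_cases hp2 : p = 2
    · refine exists_good_symm hcop _ (A.restrict U₁) (fun x y => ?_)
        (fun g x y => hAinv g x x.2 y y.2) hA'
      show A x y = A y x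
      rw [heis_antisymm (A := A) hAalt (x : Additive U) y]
      subst hp2
      exact (ZMod.neg_eq_self_mod_two _).symm
    · exact exists_good_alt hp2 hcop _ (fun x => hAalt x) (fun g x y => hAinv g x x.2 y y.2) hA'
  have g₁ := hθU.good (W := img U₁) (f U₁) (hfinj _) (himg _) fun h u => hρ h u
  have g₂ := hθW.good (W := img W₁) (f W₁) (hfinj _) (himg _) fun h u => hρ h u
  have hle : ∀ L, img L ≤ U := fun L => Subgroup.map_subtype_le _
  have hinvimg : ∀ L : Submodule (ZMod p) (Additive U), (∀ h, ∀ u ∈ L, ρ h u ∈ L) →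
      ∀ h ∈ H, ∀ x ∈ img L, h * x * h⁻¹ ∈ img L := by
    intro L hL h hh x hx
    obtain ⟨u, rfl⟩ := (himg L x).mp hx
    exact (himg L _).mpr ⟨⟨ρ ⟨h, hh⟩ u, hL _ _ u.2⟩, hρ _ _⟩
  have g := g₁.mul g₂ (fun a ha b hb => hUab a (hle _ ha) b (hle _ hb)) ?_ (hinvimg _ hU₁)
    (hinvimg _ hW₁)
  · refine ⟨θU * θW, ?_⟩
    convert g using 1
    refine le_antisymm (fun x hx => ?_) (sup_le (hle _) (hle _))
    obtain ⟨a, ha, b, hb, e⟩ := Submodule.mem_sup.mp
      (hsup.symm ▸ Submodule.mem_top (x := Additive.ofMul (⟨x, hx⟩ : U)) :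
        Additive.ofMul (⟨x, hx⟩ : U) ∈ U₁ ⊔ W₁)
    have e' : (a.toMul : X) * (b.toMul : X) = x := congrArg (fun t : Additive U => (t.toMul : X)) e
    rw [← e']
    exact mul_mem (Subgroup.mem_sup_left ((himg _ _).mpr ⟨⟨a, ha⟩, rfl⟩))
      (Subgroup.mem_sup_right ((himg _ _).mpr ⟨⟨b, hb⟩, rfl⟩))
  · refine (Subgroup.eq_bot_iff_forall _).mpr fun x hx => ?_
    obtain ⟨u, rfl⟩ := (himg _ _).mp hx.1
    obtain ⟨w, hw⟩ := (himg _ _).mp hx.2
    have e : (w : Additive U) = u := congrArg Additive.ofMul (Subtype.ext hw :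
      (w : Additive U).toMul = (u : Additive U).toMul)
    have h0 : (u : Additive U) = 0 := Submodule.disjoint_def.mp hdisj _ u.2 (e ▸ w.2)
    show (((u : Additive U)).toMul : X) = 1
    rw [h0]; rfl

end Cfsg.Agent.KGV
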